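import Cfsg.Agent.Lib.Helper29.BG139R11a
import Cfsg.Agent.Lib.Helper66.PiHall
import Cfsg.Agent.Lib.Helper74.MaxSolvable
import Cfsg.Agent.Lib.Helper30.Transitivity3

/-!
Ladder BG139 (S1378, B-G 13.9), rung R11b.
-/

set_option autoImplicit false
set_option linter.unusedSectionVars false
set_option linter.unusedVariables false

namespace Cfsg.Agent.Lib.Helper29.BG139

open Subgroup Cfsg.Agent.Lib.Helper30 Cfsg.Agent.Lib.Helper2 Cfsg.Agent.Lib.Helper2.BG12
  Cfsg.Agent.Lib.Helper68 Cfsg.Agent.Lib.Helper2.BG139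

universe u

variable {G : Type u} [Group G]

theorem exists_prime_orderOf_of_ne_bot [Finite G] {H : Subgroup G} (hH : H ≠ ⊥) :
    ∃ x ∈ H, (orderOf x).Prime := by
  have hcard : Nat.card H ≠ 1 := fun h => hH (card_eq_one.mp h)
  obtain ⟨r, hr, hrd⟩ := Nat.exists_prime_and_dvd hcard
  have : Fact r.Prime := ⟨hr⟩
  obtain ⟨x, hx⟩ := exists_prime_orderOf_dvd_card' (G := H) r hrd
  exact ⟨x, x.2, by rw [Subgroup.orderOf_coe, hx]; exact hr⟩

/-- a nontrivial solvable subgroup has a nontrivial normal `t`-subgroup. -/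
theorem exists_normal_pgroup_sub [Finite G] {W : Subgroup G} (hW : W ≠ ⊥)
    (hs : Group.IsSolvable W) : ∃ (t : ℕ) (T₀ : Subgroup G), t.Prime ∧ IsPGroup t T₀ ∧ T₀ ≠ ⊥ ∧
      T₀ ≤ W ∧ W ≤ normalizer (T₀ : Set G) := by
  have hnt : Nontrivial W := (nontrivial_iff_ne_bot W).2 hW
  obtain ⟨t, B, ht, hBn, hB1, hBp, -, -⟩ :=
    Cfsg.Agent.Lib.Helper74.exists_normal_pGroup_of_isSolvable W
  refine ⟨t, B.map W.subtype, ht, hBp.map _, ?_, map_subtype_le B, ?_⟩
  · intro h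
    exact hB1 ((map_eq_bot_iff_of_injective B W.subtype_injective).mp h)
  · intro w hw
    rw [mem_normalizer_iff]
    intro z
    constructor
    · rintro ⟨b, hb, rfl⟩
      exact ⟨⟨w, hw⟩ * b * ⟨w, hw⟩⁻¹, hBn.conj_mem b hb ⟨w, hw⟩, rfl⟩
    · rintro ⟨b, hb, hbz⟩
      refine ⟨⟨w, hw⟩⁻¹ * b * ⟨w, hw⟩, ?_, ?_⟩
      · have := hBn.conj_mem b hb (⟨w, hw⟩⁻¹ : W)
        simpa using this
      · have h1 : (b : G) = w * z * w⁻¹ := hbz
        show w⁻¹ * (b : G) * w = z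
        rw [h1]; group

/-- rung R11b, with the two instances of `cent_P_ne_bot` (rung R10) as explicit hypotheses. -/
theorem Cfg2.exists_cross_of [Finite G] (T : Texts G) {q p : ℕ} {M N S P : Subgroup G}
    (h : Cfg2 q p M N S P)
    (hcM : Cfsg.piCoreOf (Cfsg.beta M) M ⊓ centralizer (P : Set G) ≠ ⊥)
    (hcN : Cfsg.piCoreOf (Cfsg.beta N) N ⊓ centralizer (P : Set G) ≠ ⊥) :
    (∃ y ∈ M ⊓ centralizer (P : Set G), orderOf y ∈ Cfsg.beta N) ∨
      (∃ y ∈ N ⊓ centralizer (P : Set G), orderOf y ∈ Cfsg.beta M) := by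
  obtain ⟨x, hx, hxr⟩ := exists_prime_orderOf_of_ne_bot hcM
  obtain ⟨y, hy, hys⟩ := exists_prime_orderOf_of_ne_bot hcN
  have hMb := (T.t14 M h.hM).1
  have hNb := (T.t14 N h.hN).1
  have hrβ : orderOf x ∈ Cfsg.beta M := hMb.2.1 _ hxr (orderOf_dvd_natCard _ hx.1)
  have hsβ : orderOf y ∈ Cfsg.beta N := hNb.2.1 _ hys (orderOf_dvd_natCard _ hy.1)
  have hxM : x ∈ M := hMb.1 hx.1
  have hyN : y ∈ N := hNb.1 hy.1
  have hP1 : P ≠ ⊥ := by
    intro hb
    have := h.hP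
    rw [hb, card_bot] at this
    exact h.hpp.one_lt.ne this
  have hCs : Group.IsSolvable (centralizer (P : Set G)) :=
    solvable_of_ne_top T.hG (centralizer_ne_top' T.hG hP1)
  set π : Set ℕ := {orderOf x, orderOf y} with hπ
  have hbotN : ∀ K : Subgroup G, (⊥ : Subgroup G) ≤ normalizer (K : Set G) := fun K => bot_le
  have hbotc : (Nat.card (⊥ : Subgroup G)).Coprime (Nat.card (centralizer (P : Set G))) := by
    rw [card_bot]; exact Nat.coprime_one_left _
  obtain ⟨W, hW, -, hxW⟩ := Cfsg.Agent.Lib.Helper66.exists_invariant_isPiHallOf_ge (π := π)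
    (hbotN _) hbotc hCs (U := zpowers x) (by rw [zpowers_le]; exact hx.2) (hbotN _)
    (by
      intro t ht htd
      rw [Nat.card_zpowers] at htd
      left
      exact (Nat.prime_dvd_prime_iff_eq ht hxr).mp htd)
  obtain ⟨W₂, hW₂, -, hyW₂⟩ := Cfsg.Agent.Lib.Helper66.exists_invariant_isPiHallOf_ge (π := π)
    (hbotN _) hbotc hCs (U := zpowers y) (by rw [zpowers_le]; exact hy.2) (hbotN _)
    (by
      intro t ht htd
      rw [Nat.card_zpowers] at htd
      right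
      exact (Nat.prime_dvd_prime_iff_eq ht hys).mp htd)
  obtain ⟨c, hc, hcW⟩ := Cfsg.Agent.Lib.Helper66.isPiHallOf_exists_conj hCs hW hW₂
  have hxW' : x ∈ W := hxW (mem_zpowers x)
  have hyW' : y ∈ Helper30.cj c W := hcW ▸ hyW₂ (mem_zpowers y)
  have hW1 : W ≠ ⊥ := by
    intro hb
    rw [hb, mem_bot] at hxW'
    rw [hxW', orderOf_one] at hxr
    exact Nat.not_prime_one hxr
  obtain ⟨t, T₀, ht, hT₀, hT₁, hT₀W, hWT₀⟩ :=
    exists_normal_pgroup_sub hW1 (Cfsg.Agent.Lib.Helper1.isSolvable_of_le hW.1 hCs)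
  have htπ : t ∈ π := by
    have : Fact t.Prime := ⟨ht⟩
    obtain ⟨z, hz, hzo⟩ := exists_orderOf_eq_of_ne_bot hT₀ hT₁
    exact hW.2.1 t ht (hzo ▸ orderOf_dvd_natCard _ (hT₀W hz))
  rcases htπ with rfl | htπ
  · left
    have : Fact (orderOf x).Prime := ⟨hxr⟩
    have hWM : W ≤ M := le_of_opIn_ne_bot T h.hM hrβ hT₀ hT₁ hT₀W hWT₀ hxW' hxM rfl
    refine ⟨c⁻¹ * y * c, mem_inf.mpr ⟨hWM (mem_cj.mp hyW'), ?_⟩, ?_⟩
    · exact mul_mem (mul_mem (inv_mem hc) hy.2) hc
    · have : orderOf (c⁻¹ * y * c) = orderOf y := by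
        have := orderOf_injective (MulAut.conj c⁻¹).toMonoidHom (MulAut.conj c⁻¹).injective y
        simpa using this
      rw [this]; exact hsβ
  · right
    rw [Set.mem_singleton_iff] at htπ
    subst htπ
    have : Fact (orderOf y).Prime := ⟨hys⟩
    have hWN : Helper30.cj c W ≤ N := le_of_opIn_ne_bot T h.hN hsβ (isPGroup_cj c hT₀)
      (by
        intro hb
        apply hT₁
        have h1 := card_cj c T₀
        rw [hb, card_bot] at h1
        exact card_eq_one.mp h1.symm)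
      (cj_mono c hT₀W)
      (by rw [normalizer_cj]; exact cj_mono c hWT₀) hyW' hyN rfl
    refine ⟨c * x * c⁻¹, mem_inf.mpr ⟨hWN (conj_mem_cj hxW'), ?_⟩, ?_⟩
    · exact mul_mem (mul_mem hc hx.2) (inv_mem hc)
    · have : orderOf (c * x * c⁻¹) = orderOf x := by
        have := orderOf_injective (MulAut.conj c).toMonoidHom (MulAut.conj c).injective x
        simpa using this
      rw [this]; exact hrβ

end Cfsg.Agent.Lib.Helper29.BG139
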