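import Cfsg.Agent.Lib.Helper29.BG139R10
import Cfsg.Agent.Lib.Helper29.BG139R11b

/-!
Ladder BG139 (S1378, B-G 13.9), rungs R11a, R11b from `Texts0`.
-/

set_option autoImplicit false
set_option linter.unusedSectionVars false
set_option linter.unusedVariables false

namespace Cfsg.Agent.Lib.Helper29.BG139

open Subgroup Cfsg.Agent.Lib.Helper30 Cfsg.Agent.Lib.Helper2 Cfsg.Agent.Lib.Helper2.BG12
  Cfsg.Agent.Lib.Helper68 Cfsg.Agent.Lib.Helper2.BG139

universe u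

variable {G : Type u} [Group G]

/-- `r ∈ β(M)`, `x ∈ M` of order `r`: `C_G(x) ≤ M`. -/
theorem centralizer_le_of_beta0 [Finite G] (T : Texts0 G) {M : Subgroup G} (hM : IsCoatom M) {r : ℕ}
    [Fact r.Prime] (hr : r ∈ Cfsg.beta M) {x : G} (hxM : x ∈ M) (hx : orderOf x = r) :
    centralizer ((zpowers x : Subgroup G) : Set G) ≤ M := by
  have hσ : r ∈ Cfsg.sigma M := mem_sigma_of_mem_alpha T.hG T.hU hM hr.1
  exact (T.t23 M hM r hσ (zpowers x) (by rwa [zpowers_le]) (by rw [Nat.card_zpowers, hx]) default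
    (Or.inl hr)).1.1

/-- FACT: `r ∈ β(M)`, `1 ≠ T₀ ≤ M` an `r`-group: `N_G(T₀) ≤ M`. -/
theorem normalizer_le_of_beta0 [Finite G] (T : Texts0 G) {M : Subgroup G} (hM : IsCoatom M) {r : ℕ}
    [Fact r.Prime] (hr : r ∈ Cfsg.beta M) {T₀ : Subgroup G} (hT₀ : IsPGroup r T₀) (hT₁ : T₀ ≠ ⊥)
    (hT₀M : T₀ ≤ M) : normalizer (T₀ : Set G) ≤ M := by
  have hσ : r ∈ Cfsg.sigma M := mem_sigma_of_mem_alpha T.hG T.hU hM hr.1
  obtain ⟨z, hz, hzo⟩ := exists_orderOf_eq_of_ne_bot hT₀ hT₁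
  rw [(T.t04 M hM r hσ T₀ hT₀ hT₁ hT₀M).2]
  refine sup_le inf_le_left ?_
  exact (centralizer_le (by rwa [SetLike.coe_subset_coe, zpowers_le])).trans
    (centralizer_le_of_beta0 T hM hr (hT₀M hz) hzo)

theorem le_of_opIn_ne_bot0 [Finite G] (T : Texts0 G) {M W : Subgroup G} (hM : IsCoatom M) {r : ℕ}
    [Fact r.Prime] (hr : r ∈ Cfsg.beta M) {T₀ : Subgroup G} (hT₀ : IsPGroup r T₀) (hT₁ : T₀ ≠ ⊥)
    (hT₀W : T₀ ≤ W) (hWT₀ : W ≤ normalizer (T₀ : Set G)) {x : G} (hxW : x ∈ W) (hxM : x ∈ M)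
    (hx : orderOf x = r) : W ≤ M := by
  have hxp : IsPGroup r (zpowers x) := by
    apply IsPGroup.of_card (n := 1)
    rw [Nat.card_zpowers, hx, pow_one]
  have hxN : zpowers x ≤ normalizer (T₀ : Set G) := by
    rw [zpowers_le]; exact hWT₀ hxW
  have hA : IsPGroup r (zpowers x ⊔ T₀ : Subgroup G) := hxp.to_sup_of_normal_right' hT₀ hxN
  have h1 := Cfsg.Agent.Lib.Helper53.inf_centralizer_ne_bot hA hT₀ hT₁ (sup_le hxN le_normalizer)
  obtain ⟨z, hz, hzo⟩ := exists_orderOf_eq_of_ne_bot (hT₀.to_le inf_le_left) h1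
  have hzx : z ∈ centralizer ((zpowers x : Subgroup G) : Set G) :=
    centralizer_le (le_sup_left : zpowers x ≤ zpowers x ⊔ T₀) hz.2
  have hzM : z ∈ M := centralizer_le_of_beta0 T hM hr hxM hx hzx
  have hzT : zpowers z ≤ centralizer (T₀ : Set G) := by
    rw [zpowers_le]
    exact centralizer_le (le_sup_right : T₀ ≤ zpowers x ⊔ T₀) hz.2
  have hT₀M : T₀ ≤ M := (le_centralizer_iff.mp hzT).trans (centralizer_le_of_beta0 T hM hr hzM hzo)
  exact hWT₀.trans (normalizer_le_of_beta0 T hM hr hT₀ hT₁ hT₀M)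

/-- rung R11b, with the two instances of `cent_P_ne_bot` (rung R10) as explicit hypotheses. -/
theorem Cfg2.exists_cross_of0 [Finite G] (T : Texts0 G) {q p : ℕ} {M N S P : Subgroup G}
    (h : Cfg2 q p M N S P)
    (hcM : Cfsg.piCoreOf (Cfsg.beta M) M ⊓ centralizer (P : Set G) ≠ ⊥)
    (hcN : Cfsg.piCoreOf (Cfsg.beta N) N ⊓ centralizer (P : Set G) ≠ ⊥) :
    (∃ y ∈ M ⊓ centralizer (P : Set G), orderOf y ∈ Cfsg.beta N) ∨
      (∃ y ∈ N ⊓ centralizer (P : Set G), orderOf y ∈ Cfsg.beta M) := by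
  obtain ⟨x, hx, hxr⟩ := exists_prime_orderOf_of_ne_bot hcM
  obtain ⟨y, hy, hys⟩ := exists_prime_orderOf_of_ne_bot hcN
  have hMb := (T.t14 M h.hM).1
  have hNb := (T.t14 N h.hN).1
  have hrβ : orderOf x ∈ Cfsg.beta M := hMb.2.1 _ hxr (orderOf_dvd_natCard _ hx.1)
  have hsβ : orderOf y ∈ Cfsg.beta N := hNb.2.1 _ hys (orderOf_dvd_natCard _ hy.1)
  have hxM : x ∈ M := hMb.1 hx.1
  have hyN : y ∈ N := hNb.1 hy.1
  have hP1 : P ≠ ⊥ := by
    intro hb
    have := h.hP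
    rw [hb, card_bot] at this
    exact h.hpp.one_lt.ne this
  have hCs : Group.IsSolvable (centralizer (P : Set G)) :=
    solvable_of_ne_top T.hG (centralizer_ne_top' T.hG hP1)
  set π : Set ℕ := {orderOf x, orderOf y} with hπ
  have hbotN : ∀ K : Subgroup G, (⊥ : Subgroup G) ≤ normalizer (K : Set G) := fun K => bot_le
  have hbotc : (Nat.card (⊥ : Subgroup G)).Coprime (Nat.card (centralizer (P : Set G))) := by
    rw [card_bot]; exact Nat.coprime_one_left _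
  obtain ⟨W, hW, -, hxW⟩ := Cfsg.Agent.Lib.Helper66.exists_invariant_isPiHallOf_ge (π := π)
    (hbotN _) hbotc hCs (U := zpowers x) (by rw [zpowers_le]; exact hx.2) (hbotN _)
    (by
      intro t ht htd
      rw [Nat.card_zpowers] at htd
      left
      exact (Nat.prime_dvd_prime_iff_eq ht hxr).mp htd)
  obtain ⟨W₂, hW₂, -, hyW₂⟩ := Cfsg.Agent.Lib.Helper66.exists_invariant_isPiHallOf_ge (π := π)
    (hbotN _) hbotc hCs (U := zpowers y) (by rw [zpowers_le]; exact hy.2) (hbotN _)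
    (by
      intro t ht htd
      rw [Nat.card_zpowers] at htd
      right
      exact (Nat.prime_dvd_prime_iff_eq ht hys).mp htd)
  obtain ⟨c, hc, hcW⟩ := Cfsg.Agent.Lib.Helper66.isPiHallOf_exists_conj hCs hW hW₂
  have hxW' : x ∈ W := hxW (mem_zpowers x)
  have hyW' : y ∈ Helper30.cj c W := hcW ▸ hyW₂ (mem_zpowers y)
  have hW1 : W ≠ ⊥ := by
    intro hb
    rw [hb, mem_bot] at hxW'
    rw [hxW', orderOf_one] at hxr
    exact Nat.not_prime_one hxr
  obtain ⟨t, T₀, ht, hT₀, hT₁, hT₀W, hWT₀⟩ :=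
    exists_normal_pgroup_sub hW1 (Cfsg.Agent.Lib.Helper1.isSolvable_of_le hW.1 hCs)
  have htπ : t ∈ π := by
    have : Fact t.Prime := ⟨ht⟩
    obtain ⟨z, hz, hzo⟩ := exists_orderOf_eq_of_ne_bot hT₀ hT₁
    exact hW.2.1 t ht (hzo ▸ orderOf_dvd_natCard _ (hT₀W hz))
  rcases htπ with rfl | htπ
  · left
    have : Fact (orderOf x).Prime := ⟨hxr⟩
    have hWM : W ≤ M := le_of_opIn_ne_bot0 T h.hM hrβ hT₀ hT₁ hT₀W hWT₀ hxW' hxM rfl
    refine ⟨c⁻¹ * y * c, mem_inf.mpr ⟨hWM (mem_cj.mp hyW'), ?_⟩, ?_⟩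
    · exact mul_mem (mul_mem (inv_mem hc) hy.2) hc
    · have : orderOf (c⁻¹ * y * c) = orderOf y := by
        have := orderOf_injective (MulAut.conj c⁻¹).toMonoidHom (MulAut.conj c⁻¹).injective y
        simpa using this
      rw [this]; exact hsβ
  · right
    rw [Set.mem_singleton_iff] at htπ
    subst htπ
    have : Fact (orderOf y).Prime := ⟨hys⟩
    have hWN : Helper30.cj c W ≤ N := le_of_opIn_ne_bot0 T h.hN hsβ (isPGroup_cj c hT₀)
      (by
        intro hb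
        apply hT₁
        have h1 := card_cj c T₀
        rw [hb, card_bot] at h1
        exact card_eq_one.mp h1.symm)
      (cj_mono c hT₀W)
      (by rw [normalizer_cj]; exact cj_mono c hWT₀) hyW' hyN rfl
    refine ⟨c * x * c⁻¹, mem_inf.mpr ⟨hWN (conj_mem_cj hxW'), ?_⟩, ?_⟩
    · exact mul_mem (mul_mem hc hx.2) (inv_mem hc)
    · have : orderOf (c * x * c⁻¹) = orderOf x := by
        have := orderOf_injective (MulAut.conj c).toMonoidHom (MulAut.conj c).injective x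
        simpa using this
      rw [this]; exact hrβ

theorem Cfg2.exists_cross0 [Finite G] (T : Texts0 G) {q p : ℕ} {M N S P : Subgroup G}
    (h : Cfg2 q p M N S P) :
    (∃ y ∈ M ⊓ centralizer (P : Set G), orderOf y ∈ Cfsg.beta N) ∨
      (∃ y ∈ N ⊓ centralizer (P : Set G), orderOf y ∈ Cfsg.beta M) :=
  Cfg2.exists_cross_of0 T h (Cfg2.cent_P_ne_bot0 T h) (Cfg2.cent_P_ne_bot0 T h.symm)

end Cfsg.Agent.Lib.Helper29.BG139
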