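import Cfsg.Agent.Lib.Helper2.BG139B
import Cfsg.Agent.Lib.Helper29.BG139F
import Cfsg.Agent.Lib.Helper40.BG12a

/-!
Ladder BG139 (S1378, B-G 13.9), rungs R8 (from `Texts0`) and R10.
-/

set_option autoImplicit false
set_option linter.unusedSectionVars false
set_option linter.unusedVariables false

namespace Cfsg.Agent.Lib.Helper29.BG139

open Subgroup Cfsg.Agent.Lib.Helper30 Cfsg.Agent.Lib.Helper2 Cfsg.Agent.Lib.Helper2.BG12
  Cfsg.Agent.Lib.Helper68 Cfsg.Agent.Lib.Helper2.BG139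

universe u

variable {G : Type u} [Group G]

/-! ### R8 from `Texts0` (same proofs as helper16's R8) -/

theorem Cfg2.rank_S0 [Finite G] (T : Texts0 G) {q p : ℕ} {M N S P : Subgroup G}
    (h : Cfg2 q p M N S P) :
    Cfsg.RankLE 1 ↥(Cfsg.alphaCore M ⊓ centralizer (S : Set G)) := by
  by_contra hcon
  have : Fact q.Prime := ⟨h.toCfg.prime⟩
  have hSM : S ≤ M := le_normalizer.trans h.hDM
  have hu := T.t06 M h.hM S hSM (fun r hr hrS => by
    obtain ⟨n, hn⟩ := IsPGroup.iff_card.1 h.hS.isPGroup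
    have hrq : r = q := (Nat.prime_dvd_prime_iff_eq hr h.toCfg.prime).1
      (hr.dvd_of_dvd_pow (hn ▸ hrS))
    rw [hrq]; exact (h.toCfg.not_alpha0 T).2) hcon
  exact h.toCfg.not_uniq (X := M ⊓ centralizer (S : Set G))
    (inf_le_right.trans (centralizer_le_normalizer' S)) hu

theorem Cfg2.rank_P0 [Finite G] (T : Texts0 G) {q p : ℕ} {M N S P : Subgroup G}
    (h : Cfg2 q p M N S P) :
    Cfsg.RankLE 1 ↥(Cfsg.alphaCore M ⊓ centralizer (P : Set G)) := by
  by_contra hcon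
  have : Fact p.Prime := ⟨h.hpp⟩
  have hPM : P ≤ M := h.hPD.trans h.hDM
  have hu := T.t06 M h.hM P hPM (fun r hr hrP => by
    rw [h.hP] at hrP
    have hrp : r = p := (Nat.prime_dvd_prime_iff_eq hr h.hpp).1 hrP
    rw [hrp]
    exact fun hα => h.hpM (mem_sigma_of_mem_alpha T.hG T.hU h.hM hα)) hcon
  have hP1 : P ≠ ⊥ := by
    intro hb
    have := h.hP
    rw [hb, card_bot] at this
    exact h.hpp.one_lt.ne this
  have hPtop : P ≠ ⊤ := fun ht => h.hM.1 (top_le_iff.mp (ht ▸ hPM))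
  have hN : normalizer (P : Set G) ≤ M :=
    uniq_le hu h.hM inf_le_left (inf_le_right.trans (centralizer_le_normalizer' P))
      (normalizer_ne_top T.hG hP1 hPtop)
  have h9 := T.t09 M h.hM p h.hpM P h.hP hN
  exact h.toCfg.tau2_empty0 T (p := p) ⟨h.hpp, h.hpM, h9.1, h9.2⟩

/-! ### generalities -/

theorem pRankLE_one_of_isCyclic {H : Type*} [Group H] [Finite H] [IsCyclic H] {r : ℕ}
    (hr : 0 < r) : Cfsg.PRankLE r 1 H := by
  classical
  intro A _ hA
  have : Fintype H := Fintype.ofFinite H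
  have h1 := IsCyclic.card_pow_eq_one_le (α := H) (n := r) hr
  have h2 : ({x : H | x ^ r = 1} : Set H).ncard =
      (Finset.univ.filter fun a : H => a ^ r = 1).card := by
    rw [← Set.ncard_coe_finset]
    congr 1
    ext x
    simp
  have h3 : (A : Set H).ncard ≤ ({x : H | x ^ r = 1} : Set H).ncard :=
    Set.ncard_le_ncard (fun a ha => hA a ha) (Set.toFinite _)
  have h4 : Nat.card A = (A : Set H).ncard := rfl
  rw [h4, pow_one]
  exact h3.trans (h2 ▸ h1)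

theorem isCyclic_of_rankLE_one [Finite G] {r : ℕ} [Fact r.Prime] (hr2 : r ≠ 2) {K H : Subgroup G}
    (hK : Cfsg.RankLE 1 K) (hHK : H ≤ K) (hH : IsPGroup r H) : IsCyclic H := by
  have h1 : IsCyclic ↥(H.subgroupOf K) :=
    Cfsg.Agent.Lib.Helper40.BG12.isCyclic_of_isPGroup_rank_one hr2 (hK r Fact.out)
      (H.subgroupOf K) (hH.comap_subtype)
  exact (MulEquiv.isCyclic (subgroupOfEquivOfLe hHK)).mp h1

/-! ### R10 -/

/-- the local statement: an `S P`-invariant Sylow `r`-subgroup `R` of `M_β`. -/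
theorem Cfg2.local0 [Finite G] (T : Texts0 G) {q p : ℕ} {M N S P : Subgroup G}
    (h : Cfg2 q p M N S P) {r : ℕ} [Fact r.Prime] {R : Subgroup G}
    (hR : IsSylowIn r R (Cfsg.piCoreOf (Cfsg.beta M) M)) (hR1 : R ≠ ⊥)
    (hSR : S ≤ normalizer (R : Set G)) (hPR : P ≤ normalizer (R : Set G)) :
    R ⊓ centralizer (P : Set G) ≠ ⊥ ∧
      R ⊓ centralizer (S : Set G) ⊓ centralizer (P : Set G) = ⊥ := by
  have hMb := (T.t14 M h.hM).1
  have hrp : r.Prime := Fact.out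
  obtain ⟨z, hz, hzo⟩ := exists_orderOf_eq_of_ne_bot hR.isPGroup hR1
  have hrβ : r ∈ Cfsg.beta M := hMb.2.1 r hrp (hzo ▸ orderOf_dvd_natCard _ (hR.le hz))
  have hrα : r ∈ Cfsg.alpha M := hrβ.1
  have hrσ : r ∈ Cfsg.sigma M := mem_sigma_of_mem_alpha T.hG T.hU h.hM hrα
  have hpr : p ≠ r := fun e => h.hpM (e ▸ hrσ)
  have hqr : q ≠ r := fun e => (h.toCfg.not_alpha0 T).2 (e ▸ hrα)
  have hpq : p ≠ q := fun e => h.hpM (e ▸ h.hqM)
  have hr2 : r ≠ 2 := by
    intro e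
    have h1 : r ∣ Nat.card G := hzo ▸ orderOf_dvd_natCard z
    rw [e] at h1
    exact (Nat.not_even_iff_odd.mpr T.hG.1) (even_iff_two_dvd.mpr h1)
  have hRM : IsSylowIn r R M := by
    refine ⟨hR.le.trans hMb.1, hR.isPGroup, ?_⟩
    rw [← relIndex_mul_relIndex R _ M hR.le hMb.1]
    intro hd
    rcases hrp.dvd_mul.mp hd with hd | hd
    · exact hR.not_dvd hd
    · exact hMb.2.2 r hrp hrβ hd
  have hRn : ¬ IsCyclic R := by
    intro hc
    apply hrα.2
    apply pRankLE_of_sylow hRM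
    intro A hA hAe
    refine (pRankLE_one_of_isCyclic hrp.pos A hA hAe).trans ?_
    exact Nat.pow_le_pow_right hrp.pos (by norm_num)
  have hRa : R ≤ Cfsg.alphaCore M := by rw [h.toCfg.alphaCore_eq0 T]; exact hR.le
  exact lemmaF h.hpp h.toCfg.prime hrp hpq hpr hqr h.hP h.hS.isPGroup hR.isPGroup h.hPD hSR hPR
    h.hfpf
    (isCyclic_of_rankLE_one hr2 (Cfg2.rank_P0 T h) (inf_le_inf_right _ hRa)
      (hR.isPGroup.to_le inf_le_left))
    (isCyclic_of_rankLE_one hr2 (Cfg2.rank_S0 T h) (inf_le_inf_right _ hRa)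
      (hR.isPGroup.to_le inf_le_left)) hRn

theorem Cfg2.coprime0 [Finite G] (T : Texts0 G) {q p : ℕ} {M N S P : Subgroup G}
    (h : Cfg2 q p M N S P) :
    (Nat.card ↥(S ⊔ P)).Coprime (Nat.card (Cfsg.piCoreOf (Cfsg.beta M) M)) := by
  have hMb := (T.t14 M h.hM).1
  have : Fact q.Prime := ⟨h.toCfg.prime⟩
  obtain ⟨k, hk⟩ := IsPGroup.iff_card.mp h.hS.isPGroup
  have hpq : p ≠ q := fun e => h.hpM (e ▸ h.hqM)
  have h1 : (Nat.card P).Coprime (Nat.card S) := by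
    rw [h.hP, hk]
    exact Nat.Coprime.pow_right _ ((Nat.coprime_primes h.hpp h.toCfg.prime).mpr hpq)
  have h2 : Nat.card (P ⊔ S : Subgroup G) = Nat.card P * Nat.card S :=
    Cfsg.Agent.Lib.Helper1.card_sup_of_coprime_le_normalizer h.hPD h1
  rw [sup_comm, h2, h.hP, hk]
  apply Nat.Coprime.mul_left
  · rw [Nat.Prime.coprime_iff_not_dvd h.hpp]
    intro hd
    exact h.hpM (mem_sigma_of_mem_alpha T.hG T.hU h.hM (hMb.2.1 p h.hpp hd).1)
  · apply Nat.Coprime.pow_left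
    rw [Nat.Prime.coprime_iff_not_dvd h.toCfg.prime]
    intro hd
    exact (h.toCfg.not_alpha0 T).2 (hMb.2.1 q h.toCfg.prime hd).1

theorem Cfg2.sup_le_normalizer0 [Finite G] {q p : ℕ} {M N S P : Subgroup G}
    (h : Cfg2 q p M N S P) :
    S ⊔ P ≤ normalizer ((Cfsg.piCoreOf (Cfsg.beta M) M : Subgroup G) : Set G) :=
  (sup_le (le_normalizer.trans h.hDM) (h.hPD.trans h.hDM)).trans (le_normalizer_piCoreOf _ _)

theorem Cfg2.cent_P_ne_bot0 [Finite G] (T : Texts0 G) {q p : ℕ} {M N S P : Subgroup G}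
    (h : Cfg2 q p M N S P) :
    Cfsg.piCoreOf (Cfsg.beta M) M ⊓ centralizer (P : Set G) ≠ ⊥ := by
  have hMb := (T.t14 M h.hM).1
  have hne : Cfsg.piCoreOf (Cfsg.beta M) M ≠ ⊥ := by
    rw [← h.toCfg.alphaCore_eq0 T]; exact h.toCfg.alphaCore_ne_bot0 T
  have hcard : Nat.card (Cfsg.piCoreOf (Cfsg.beta M) M) ≠ 1 := fun e => hne (card_eq_one.mp e)
  obtain ⟨r, hr, hrd⟩ := Nat.exists_prime_and_dvd hcard
  have : Fact r.Prime := ⟨hr⟩
  have hsol : Group.IsSolvable (Cfsg.piCoreOf (Cfsg.beta M) M) :=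
    Cfsg.Agent.Lib.Helper1.isSolvable_of_le hMb.1 (solvable_of_ne_top T.hG h.hM.1)
  obtain ⟨R, hR, hRA⟩ := exists_invariant_isSylowIn (Cfg2.sup_le_normalizer0 h) (Cfg2.coprime0 T h)
    (Or.inr hsol) r
  have hR1 : R ≠ ⊥ := by
    intro hb
    apply hR.not_dvd
    rw [hb, relIndex_bot_left]
    exact hrd
  have h1 := (Cfg2.local0 T h hR hR1 (le_sup_left.trans hRA) (le_sup_right.trans hRA)).1
  intro hb
  apply h1
  rw [eq_bot_iff, ← hb]
  exact inf_le_inf_right _ hR.le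

theorem Cfg2.cent_SP_eq_bot0 [Finite G] (T : Texts0 G) {q p : ℕ} {M N S P : Subgroup G}
    (h : Cfg2 q p M N S P) :
    Cfsg.piCoreOf (Cfsg.beta M) M ⊓ centralizer (S : Set G) ⊓ centralizer (P : Set G) = ⊥ := by
  have hMb := (T.t14 M h.hM).1
  by_contra hne
  have hcard : Nat.card ↥(Cfsg.piCoreOf (Cfsg.beta M) M ⊓ centralizer (S : Set G) ⊓
      centralizer (P : Set G)) ≠ 1 := fun e => hne (card_eq_one.mp e)
  obtain ⟨r, hr, hrd⟩ := Nat.exists_prime_and_dvd hcard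
  have : Fact r.Prime := ⟨hr⟩
  obtain ⟨y', hy'⟩ := exists_prime_orderOf_dvd_card' (G := ↥(Cfsg.piCoreOf (Cfsg.beta M) M ⊓
    centralizer (S : Set G) ⊓ centralizer (P : Set G))) r hrd
  obtain ⟨y, hy⟩ := y'
  have hyo : orderOf y = r := by rw [← hy', Subgroup.orderOf_mk]
  have hsol : Group.IsSolvable (Cfsg.piCoreOf (Cfsg.beta M) M) :=
    Cfsg.Agent.Lib.Helper1.isSolvable_of_le hMb.1 (solvable_of_ne_top T.hG h.hM.1)
  have hUp : IsPGroup r (zpowers y) := by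
    apply IsPGroup.of_card (n := 1)
    rw [Nat.card_zpowers, hyo, pow_one]
  have hUA : S ⊔ P ≤ normalizer ((zpowers y : Subgroup G) : Set G) := by
    refine le_trans ?_ (centralizer_le_normalizer' (zpowers y))
    rw [le_centralizer_iff, zpowers_le]
    rw [← zpowers_le, le_centralizer_iff]
    apply sup_le
    · rw [le_centralizer_iff, zpowers_le]; exact hy.1.2
    · rw [le_centralizer_iff, zpowers_le]; exact hy.2
  obtain ⟨R, hR, hUR, hRA⟩ := exists_invariant_isSylowIn_ge (Cfg2.sup_le_normalizer0 h) (Cfg2.coprime0 T h)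
    (Or.inr hsol) r (U := zpowers y) (by rw [zpowers_le]; exact hy.1.1) hUp hUA
  have hyR : y ∈ R := hUR (mem_zpowers y)
  have hy1 : y ≠ 1 := by
    intro e
    rw [e, orderOf_one] at hyo
    exact hr.one_lt.ne hyo
  have hR1 : R ≠ ⊥ := by
    intro hb
    rw [hb, mem_bot] at hyR
    exact hy1 hyR
  have h1 := (Cfg2.local0 T h hR hR1 (le_sup_left.trans hRA) (le_sup_right.trans hRA)).2
  have h2 : y ∈ R ⊓ centralizer (S : Set G) ⊓ centralizer (P : Set G) :=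
    mem_inf.mpr ⟨mem_inf.mpr ⟨hyR, hy.1.2⟩, hy.2⟩
  rw [h1, mem_bot] at h2
  exact hy1 h2

/-! ### exact signatures of the skeleton -/

theorem Cfg2.cent_P_ne_bot [Finite G] (T : Texts G) {q p : ℕ} {M N S P : Subgroup G}
    (h : Cfg2 q p M N S P) :
    Cfsg.piCoreOf (Cfsg.beta M) M ⊓ centralizer (P : Set G) ≠ ⊥ := Cfg2.cent_P_ne_bot0 T.to0 h

theorem Cfg2.cent_SP_eq_bot [Finite G] (T : Texts G) {q p : ℕ} {M N S P : Subgroup G}
    (h : Cfg2 q p M N S P) :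
    Cfsg.piCoreOf (Cfsg.beta M) M ⊓ centralizer (S : Set G) ⊓ centralizer (P : Set G) = ⊥ :=
  Cfg2.cent_SP_eq_bot0 T.to0 h

end Cfsg.Agent.Lib.Helper29.BG139
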