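import Cfsg.Agent.Lib.Helper58.BG13a
import Cfsg.Agent.Lib.Helper28.BG12b
import Cfsg.Agent.Lib.Helper29.BG139F
import Cfsg.Agent.S1414
import Cfsg.Agent.S1415
import Cfsg.Agent.S1417
import Cfsg.Agent.S1418
import Cfsg.Agent.S1423
import Cfsg.Agent.S1426
import Cfsg.Agent.S1427
import Cfsg.Agent.S1428
import Cfsg.Agent.S0055

/-!
Bender--Glauberman 13.6 (in the form "13.6'" of helper51): `p ∈ τ₁(M)`, `P ≤ E` of order `p`,
`X ≤ C_{M_σ}(P)` of prime order `q`.  Then `q ∈ β(M)` or `X ≤ M_σ'`; hence `C_G(X) ≤ M` and `M` is the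
only maximal subgroup containing `C_G(X)`.
-/

set_option autoImplicit false
set_option linter.unusedSectionVars false
set_option linter.unusedVariables false

namespace Cfsg.Agent.Lib.Helper29.BG136

open Subgroup Cfsg.Agent.Lib.Helper30 Cfsg.Agent.Lib.Helper2 Cfsg.Agent.Lib.Helper68
  Cfsg.Agent.Lib.Helper28.BG12 Cfsg.Agent.Lib.Helper29.BG139

universe u

variable {G : Type u} [Group G] [Finite G]

theorem coprime_compl (hG : Cfsg.IsMinSimpleOddOrder G) {M E : Subgroup G} (hM : IsCoatom M)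
    (hE : Cfsg.IsComplIn E (Cfsg.sigmaCore M) M) :
    (Nat.card E).Coprime (Nat.card (Cfsg.sigmaCore M)) :=
  Nat.coprime_of_dvd (fun k hk h1 h2 =>
    not_mem_sigma_of_dvd_compl hG hM hE hk h1 ((sigmaCore_hall hG hM).2.1 k hk h2))

theorem sigmaCore_le_comm (hG : Cfsg.IsMinSimpleOddOrder G) {M E : Subgroup G} (hM : IsCoatom M)
    (hE : Cfsg.IsComplIn E (Cfsg.sigmaCore M) M) : Cfsg.sigmaCore M ≤ ⁅M, M⁆ := by
  have h := (Cfsg.Agent.S1426.result hG M hM E hE).2.1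
  rw [← h]
  exact commutator_mono (sigmaCore_le M) hE.1

/-- a Sylow subgroup of a Hall subgroup (for a prime of the Hall set) is a Sylow subgroup. -/
theorem isSylowIn_of_hall {π : Set ℕ} {t : ℕ} [Fact t.Prime] {T H E : Subgroup G}
    (hH : Cfsg.IsPiHallOf π H E) (ht : t ∈ π) (hT : IsSylowIn t T H) : IsSylowIn t T E := by
  refine ⟨hT.le.trans hH.1, hT.isPGroup, ?_⟩
  rw [← relIndex_mul_relIndex T H E hT.le hH.1]
  intro hd
  rcases (Fact.out : t.Prime).dvd_mul.mp hd with hd | hd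
  · exact hT.not_dvd hd
  · exact hH.2.2 t Fact.out ht hd

theorem IsSylowIn.ne_bot' {t : ℕ} [Fact t.Prime] {T E : Subgroup G} (hT : IsSylowIn t T E)
    (ht : t ∣ Nat.card E) : T ≠ ⊥ := by
  intro hb
  apply hT.not_dvd
  rw [hb, relIndex_bot_left]
  exact ht

/-- **12.19** (lemma K): `E'` centralizes every `E`-invariant Sylow `q`-subgroup of `M_σ`, `q ∉ β(M)`. -/
theorem comm_compl_centralizes (hG : Cfsg.IsMinSimpleOddOrder G) {M E : Subgroup G}
    (hM : IsCoatom M) (hE : Cfsg.IsComplIn E (Cfsg.sigmaCore M) M) {q : ℕ} [Fact q.Prime]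
    (hqβ : q ∉ Cfsg.beta M) {S : Subgroup G} (hS : IsPGroup q S) (hSM : S ≤ Cfsg.sigmaCore M)
    (hES : E ≤ normalizer (S : Set G)) : ⁅E, E⁆ ≤ centralizer (S : Set G) := by
  by_cases hS1 : S = ⊥
  · rw [hS1, le_centralizer_iff]; exact bot_le
  have hqS : q ∣ Nat.card (Cfsg.sigmaCore M) := by
    obtain ⟨z, hz, hzo⟩ := exists_orderOf_eq_of_ne_bot hS hS1
    exact hzo ▸ orderOf_dvd_natCard _ (hSM hz)
  have hEE : ⁅E, E⁆ ≤ E := commutator_le_self E
  apply Cfsg.Agent.Lib.Helper58.BG13.lemmaK hG hM hqβ hS hS1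
    (hSM.trans (sigmaCore_le_comm hG hM hE)) (commutator_mono hE.1 hE.1) _ (hEE.trans hES)
  exact Nat.Coprime.coprime_dvd_left (card_dvd_of_le hEE)
    (Nat.Coprime.coprime_dvd_right hqS (coprime_compl hG hM hE))

/-- `C_{M_σ}(P)` is centralized by a Sylow `t`-subgroup of `E` for each `t ∈ τ₁(M)`. -/
theorem exists_sylow_tau1 (hG : Cfsg.IsMinSimpleOddOrder G) {M E : Subgroup G} (hM : IsCoatom M)
    (hE : Cfsg.IsComplIn E (Cfsg.sigmaCore M) M) {p : ℕ} (hp : p ∈ Cfsg.tau1 M) {P : Subgroup G}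
    (hPE : P ≤ E) (hP : Nat.card P = p) {E₁ : Subgroup G}
    (hE₁ : Cfsg.IsPiHallOf (Cfsg.tau1 M) E₁ E) (hPE₁ : P ≤ E₁) {t : ℕ} [Fact t.Prime]
    (ht : t ∈ Cfsg.tau1 M) (htE : t ∣ Nat.card E) {T : Subgroup G} (hT : IsSylowIn t T E₁) :
    Cfsg.sigmaCore M ⊓ centralizer (P : Set G) ≤ centralizer (T : Set G) := by
  have hTE : IsSylowIn t T E := isSylowIn_of_hall hE₁ ht hT
  have hT1 : T ≠ ⊥ := IsSylowIn.ne_bot' hTE htE
  have hcyc : IsCyclic E₁ := (Cfsg.Agent.S1415.result hG M hM E hE).2.1 E₁ hE₁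
  obtain ⟨x, hxT, hxo⟩ := exists_orderOf_eq_of_ne_bot hT.isPGroup hT1
  have hx1 : x ≠ 1 := by
    intro e
    rw [e, orderOf_one] at hxo
    exact (Fact.out : t.Prime).one_lt.ne hxo
  have hab := le_centralizer_self_of_le_isCyclic hcyc (le_refl E₁)
  have hR : zpowers x ≤ E ⊓ centralizer (P : Set G) := by
    rw [zpowers_le]
    refine mem_inf.mpr ⟨hTE.le hxT, ?_⟩
    exact centralizer_le hPE₁ (hab (hT.le hxT))
  have h28 := Cfsg.Agent.S1428.result hG M hM E hE p hp P hPE hP (zpowers x) hR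
    (by rw [Nat.card_zpowers, hxo]; exact Fact.out)
  obtain ⟨T', hT'⟩ := hTE.exists_sylow
  have hT'1 : (T' : Subgroup E) ≠ ⊥ := by
    intro hb
    rw [hb, Subgroup.map_bot] at hT'
    exact hT1 hT'.symm
  have hT'c : IsCyclic (T' : Subgroup E) := by
    have h1 : IsCyclic T := by
      have : IsCyclic (T.subgroupOf E₁) := inferInstance
      exact (MulEquiv.isCyclic (subgroupOfEquivOfLe hT.le)).mp this
    rw [← hT'] at h1
    exact (MulEquiv.isCyclic
      ((T' : Subgroup E).equivMapOfInjective E.subtype E.subtype_injective)).mpr h1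
  have h27 := Cfsg.Agent.S1427.result hG M hM E hE t T' hT'1 hT'c x (by rw [hT']; exact hxT) hx1
  rw [hT'] at h27
  intro y hy
  have h1 : y ∈ Cfsg.sigmaCore M ⊓ centralizer ((zpowers x : Subgroup G) : Set G) := h28 hy
  have h2 : y ∈ Cfsg.sigmaCore M ⊓ centralizer ({x} : Set G) :=
    mem_inf.mpr ⟨h1.1, centralizer_le (by simp) h1.2⟩
  rw [h27] at h2
  exact h2.2

/-- the core: `X ≤ S ∩ C(P)`, `S` an `E`-invariant `q`-subgroup of `M_σ`, `q ∉ β(M)`:
`E` centralizes `X`. -/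
theorem compl_centralizes (hG : Cfsg.IsMinSimpleOddOrder G) {M E : Subgroup G} (hM : IsCoatom M)
    (hE : Cfsg.IsComplIn E (Cfsg.sigmaCore M) M) {p : ℕ} (hp : p ∈ Cfsg.tau1 M) {P : Subgroup G}
    (hPE : P ≤ E) (hP : Nat.card P = p) {q : ℕ} [Fact q.Prime] (hqβ : q ∉ Cfsg.beta M)
    {S : Subgroup G} (hS : IsPGroup q S) (hSM : S ≤ Cfsg.sigmaCore M)
    (hES : E ≤ normalizer (S : Set G)) {X : Subgroup G} (hXS : X ≤ S)
    (hXP : X ≤ centralizer (P : Set G)) (hX1 : X ≠ ⊥) : E ≤ centralizer (X : Set G) := by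
  have hK := comm_compl_centralizes hG hM hE hqβ hS hSM hES
  have hKX : ⁅E, E⁆ ≤ centralizer (X : Set G) := hK.trans (centralizer_le hXS)
  have hXC : X ≤ Cfsg.sigmaCore M ⊓ centralizer (P : Set G) := le_inf (hXS.trans hSM) hXP
  have hEs : Group.IsSolvable E :=
    Cfsg.Agent.Lib.Helper1.isSolvable_of_le hE.1 (solvable_of_ne_top hG hM.1)
  obtain ⟨E₁, hE₁, -, hPE₁⟩ := Cfsg.Agent.Lib.Helper66.exists_invariant_isPiHallOf_ge
    (π := Cfsg.tau1 M) (A := ⊥) (G := E) (U := P) bot_le (by simp) hEs hPE bot_le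
    (by
      intro t ht htd
      rw [hP] at htd
      rw [(Nat.prime_dvd_prime_iff_eq ht hp.1).mp htd]
      exact hp)
  obtain ⟨E₃, hE₃⟩ := Cfsg.Agent.Lib.Helper66.exists_isPiHallOf (Cfsg.tau3 M) E hEs
  apply le_of_forall_isSylowIn
  intro t _ htE
  have htp : t.Prime := Fact.out
  have htσ : t ∉ Cfsg.sigma M := not_mem_sigma_of_dvd_compl hG hM hE htp htE
  have htM : t ∣ Nat.card M := htE.trans (card_dvd_of_le hE.1)
  have hr2 := pRankLE_two_of_not_mem_sigma hG hM htp htσ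
  by_cases hr1 : Cfsg.PRankLE t 1 M
  · by_cases hd : t ∣ Nat.card ↥⁅M, M⁆
    · have ht3 : t ∈ Cfsg.tau3 M := ⟨htp, htσ, hd, hr1⟩
      obtain ⟨T, hT⟩ := exists_isSylowIn t E₃
      refine ⟨T, isSylowIn_of_hall hE₃ ht3 hT, ?_⟩
      exact (hT.le.trans ((Cfsg.Agent.S1415.result hG M hM E hE).2.2 E₃ hE₃).2.1).trans hKX
    · have ht1 : t ∈ Cfsg.tau1 M := ⟨htp, htσ, htM, hd, hr1⟩
      obtain ⟨T, hT⟩ := exists_isSylowIn t E₁
      refine ⟨T, isSylowIn_of_hall hE₁ ht1 hT, ?_⟩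
      rw [le_centralizer_iff]
      exact hXC.trans (exists_sylow_tau1 hG hM hE hp hPE hP hE₁ hPE₁ ht1 htE hT)
  · exfalso
    have ht2 : t ∈ Cfsg.tau2 M := ⟨htp, htσ, hr2, hr1⟩
    obtain ⟨A, hAE, hA, hAc⟩ := exists_ea_sq_in_compl hG hM hE ht2
    have h18 := (Cfsg.Agent.S1418.result hG M hM E hE t ht2 A ⟨hAE, hA, hAc⟩).1.1
    have h17 := (Cfsg.Agent.S1417.result hG M hM t ht2 A ⟨hAE.trans hE.1, hA, hAc⟩).2.2.2.1
    have : IsMulCommutative A := hA.1
    have hpt : p ≠ t := by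
      intro e
      exact hr1 (e ▸ hp.2.2.2.2)
    have hcop : (Nat.card P).Coprime (Nat.card A) := by
      rw [hP, hAc]
      exact Nat.Coprime.pow_right _ ((Nat.coprime_primes hp.1 htp).mpr hpt)
    obtain ⟨-, hsup⟩ := Cfsg.Agent.S0055.result P A (hPE.trans h18) hcop
    have hAX : A ≤ centralizer (X : Set G) := by
      rw [← hsup]
      apply sup_le
      · intro a ha
        by_cases ha1 : a = 1
        · rw [ha1]; exact one_mem _
        have hao : orderOf a = t := orderOf_eq_prime (hA.2 a ha.1) ha1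
        have hR : zpowers a ≤ E ⊓ centralizer (P : Set G) := by
          rw [zpowers_le]; exact mem_inf.mpr ⟨hAE ha.1, ha.2⟩
        have h28 := Cfsg.Agent.S1428.result hG M hM E hE p hp P hPE hP (zpowers a) hR
          (by rw [Nat.card_zpowers, hao]; exact htp)
        have h1 : X ≤ centralizer ((zpowers a : Subgroup G) : Set G) :=
          (hXC.trans h28).trans inf_le_right
        exact (le_centralizer_iff.mp h1) (mem_zpowers a)
      · exact (commutator_mono hAE hPE).trans hKX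
    have h2 : X ≤ Cfsg.sigmaCore M ⊓ centralizer (A : Set G) :=
      le_inf (hXS.trans hSM) (le_centralizer_iff.mp hAX)
    rw [h17] at h2
    exact hX1 (le_bot_iff.mp h2)

/-- **13.6'**. -/
theorem l136_core (hG : Cfsg.IsMinSimpleOddOrder G) {M E : Subgroup G} (hM : IsCoatom M)
    (hE : Cfsg.IsComplIn E (Cfsg.sigmaCore M) M) {p : ℕ} (hp : p ∈ Cfsg.tau1 M) {P : Subgroup G}
    (hPE : P ≤ E) (hP : Nat.card P = p) {q : ℕ} [Fact q.Prime] {X : Subgroup G}
    (hX : X ≤ Cfsg.sigmaCore M ⊓ centralizer (P : Set G)) (hXq : Nat.card X = q) :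
    q ∈ Cfsg.beta M ∨ X ≤ ⁅Cfsg.sigmaCore M, Cfsg.sigmaCore M⁆ := by
  by_cases hqβ : q ∈ Cfsg.beta M
  · exact Or.inl hqβ
  right
  have hcop := coprime_compl hG hM hE
  have hEN : E ≤ normalizer (Cfsg.sigmaCore M : Set G) := hE.1.trans (le_normalizer_sigmaCore M)
  have hsol : Group.IsSolvable (Cfsg.sigmaCore M) :=
    Cfsg.Agent.Lib.Helper1.isSolvable_of_le (sigmaCore_le M) (solvable_of_ne_top hG hM.1)
  obtain ⟨S, hS, hES⟩ := exists_invariant_isSylowIn hEN hcop (Or.inr hsol) q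
  have hcopP : (Nat.card P).Coprime (Nat.card (Cfsg.sigmaCore M)) :=
    Nat.Coprime.coprime_dvd_left (card_dvd_of_le hPE) hcop
  have hXp : IsPGroup q X := IsPGroup.of_card (n := 1) (by rw [hXq, pow_one])
  have hPX : P ≤ normalizer (X : Set G) :=
    (le_centralizer_iff.mp (hX.trans inf_le_right)).trans (centralizer_le_normalizer' X)
  obtain ⟨S', hS', hXS', hPS'⟩ := exists_invariant_isSylowIn_ge (hPE.trans hEN) hcopP
    (Or.inr hsol) q (hX.trans inf_le_left) hXp hPX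
  obtain ⟨c, hc, hcS⟩ := invariant_isSylowIn_conj (hPE.trans hEN) hcopP (Or.inr hsol) q hS' hS
    hPS' (hPE.trans hES)
  have hX' : Helper30.cj c X ≤ S := hcS ▸ cj_mono c hXS'
  have hX'P : Helper30.cj c X ≤ centralizer (P : Set G) := by
    intro y hy
    rw [mem_cj] at hy
    have e : y = c * (c⁻¹ * y * c) * c⁻¹ := by group
    rw [e]
    exact mul_mem (mul_mem hc.2 ((hX.trans inf_le_right) hy)) (inv_mem hc.2)
  have hX'1 : Helper30.cj c X ≠ ⊥ := by
    intro hb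
    have h1 := card_cj c X
    rw [hb, card_bot, hXq] at h1
    exact (Fact.out : q.Prime).one_lt.ne h1
  have hEX := compl_centralizes hG hM hE hp hPE hP hqβ hS.isPGroup hS.le hES hX' hX'P hX'1
  have h26 := (Cfsg.Agent.S1426.result hG M hM E hE).1
  have h1 : Helper30.cj c X ≤ ⁅Cfsg.sigmaCore M, Cfsg.sigmaCore M⁆ :=
    (le_inf (hX'.trans hS.le) (le_centralizer_iff.mp hEX)).trans h26
  have h2 := cj_le_iff.mp h1
  rw [cj_commutator, cj_eq_of_mem (inv_mem hc.1)] at h2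
  exact h2

theorem mem_sigma_of_card (hG : Cfsg.IsMinSimpleOddOrder G) {M : Subgroup G} (hM : IsCoatom M)
    {q : ℕ} [Fact q.Prime] {X : Subgroup G} (hX : X ≤ Cfsg.sigmaCore M) (hXq : Nat.card X = q) :
    q ∈ Cfsg.sigma M :=
  (sigmaCore_hall hG hM).2.1 q Fact.out (hXq ▸ card_dvd_of_le hX)

/-- **13.6** in the shape `L136` of helper1 (msg 1894). -/
theorem l136 (hG : Cfsg.IsMinSimpleOddOrder G) :
    ∀ (M : Subgroup G), IsCoatom M → ∀ E : Subgroup G, Cfsg.IsComplIn E (Cfsg.sigmaCore M) M →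
      ∀ p : ℕ, p ∈ Cfsg.tau1 M → ∀ P : Subgroup G, P ≤ E → Nat.card P = p →
      ∀ (q : ℕ) [Fact q.Prime] (X : Subgroup G),
        X ≤ Cfsg.sigmaCore M ⊓ Subgroup.centralizer (P : Set G) → Nat.card X = q →
        (Subgroup.centralizer (X : Set G) ≤ M ∧
          ∀ L : Subgroup G, IsCoatom L → Subgroup.centralizer (X : Set G) ≤ L → L = M) := by
  intro M hM E hE p hp P hPE hP q _ X hX hXq
  exact (Cfsg.Agent.S1423.result hG M hM q (mem_sigma_of_card hG hM (hX.trans inf_le_left) hXq) X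
    ((hX.trans inf_le_left).trans (sigmaCore_le M)) hXq default
    (l136_core hG hM hE hp hPE hP hX hXq)).1

/-- **13.6**, second part: the Sylow `q`-subgroups of `M_σ` lie in `𝒰`. -/
theorem l136_uniq (hG : Cfsg.IsMinSimpleOddOrder G) {M E : Subgroup G} (hM : IsCoatom M)
    (hE : Cfsg.IsComplIn E (Cfsg.sigmaCore M) M) {p : ℕ} (hp : p ∈ Cfsg.tau1 M) {P : Subgroup G}
    (hPE : P ≤ E) (hP : Nat.card P = p) {q : ℕ} [Fact q.Prime] {X : Subgroup G}
    (hX : X ≤ Cfsg.sigmaCore M ⊓ centralizer (P : Set G)) (hXq : Nat.card X = q) {S : Subgroup G}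
    (hS : IsSylowIn q S (Cfsg.sigmaCore M)) : Cfsg.InUniqueMaximal S := by
  obtain ⟨S', hS'⟩ := hS.exists_sylow
  have h := (Cfsg.Agent.S1423.result hG M hM q
    (mem_sigma_of_card hG hM (hX.trans inf_le_left) hXq) X
    ((hX.trans inf_le_left).trans (sigmaCore_le M)) hXq S'
    (l136_core hG hM hE hp hPE hP hX hXq)).2.1
  rwa [hS'] at h

end Cfsg.Agent.Lib.Helper29.BG136
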