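import Cfsg.Agent.Lib.Helper58.BG1212Defs
import Cfsg.Agent.Lib.Helper62.BG1212Split
import Cfsg.Agent.Lib.Helper13.BG127.PTH
import Cfsg.Agent.Lib.Helper2.Gaschutz
import Cfsg.Agent.Lib.Helper28.BG16a
import Cfsg.Agent.S1417
import Cfsg.Agent.S1418

set_option autoImplicit false
set_option linter.unusedVariables false
set_option linter.unusedSectionVars false

/-! Ladder BG1212 (B-G 12.12 = S1421), rung NA (helper29): the case of a prime `p ∈ τ₂(M)` with
nonabelian Sylow `p`-subgroups of `G`. -/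

namespace Cfsg.Agent.Lib.Helper29.BG1212

open Subgroup Cfsg.Agent.Lib.Helper30 Cfsg.Agent.Lib.Helper58.BG1212

universe u

variable {G : Type u} [Group G]

theorem na_pow_mul {Z : Subgroup G} {z h : G} (hz : z ∈ Z) (hh : h ∈ normalizer (Z : Set G))
    (n : ℕ) : ∃ z' ∈ Z, (z * h) ^ n = z' * h ^ n := by
  induction n with
  | zero => exact ⟨1, one_mem _, by simp⟩
  | succ n ih =>
    obtain ⟨z', hz', e⟩ := ih
    have hn : h ^ n ∈ normalizer (Z : Set G) := pow_mem hh n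
    refine ⟨z' * (h ^ n * z * (h ^ n)⁻¹), mul_mem hz' ((mem_normalizer_iff.mp hn z).mp hz), ?_⟩
    rw [pow_succ, e, pow_succ]
    group

theorem na_centralizer_zpowers {e x : G} (hx : x ∈ centralizer ({e} : Set G)) :
    x ∈ centralizer ((zpowers e : Subgroup G) : Set G) := by
  rw [mem_centralizer_iff]
  rintro _ ⟨k, rfl⟩
  have h1 : e * x = x * e := (mem_centralizer_iff.mp hx) e rfl
  exact ((show Commute e x from h1).zpow_left k).eq

theorem na_centralizer_pow {e x : G} (hx : x ∈ centralizer ({e} : Set G)) (k : ℕ) :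
    x ∈ centralizer ({e ^ k} : Set G) := by
  rw [mem_centralizer_iff]
  rintro _ rfl
  have h1 : e * x = x * e := (mem_centralizer_iff.mp hx) e rfl
  exact ((show Commute e x from h1).pow_left k).eq

variable [Finite G] {M E A : Subgroup G} {p : ℕ} [Fact p.Prime]

/-- `(*)`: no element of `Z - 1` is a `p`-th power in `E`. -/
theorem na_star (hG : Cfsg.IsMinSimpleOddOrder G) (hM : IsCoatom M)
    (hE : Cfsg.IsComplIn E (Cfsg.sigmaCore M) M) (hp : p ∈ Cfsg.tau2 M)
    (hS : ∀ S : Sylow p G, ¬ IsMulCommutative (S : Subgroup G))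
    (hAE : A ≤ E) (hA : Cfsg.IsElementaryAbelian p A) (hA2 : Nat.card A = p ^ 2) {y : G}
    (hy : y ∈ E) (hyZ : y ^ p ∈ A ⊓ centralizer (Cfsg.sigmaCore M : Set G)) : y ^ p = 1 := by
  by_contra ha
  have hpp : p.Prime := Fact.out
  have h18 := Cfsg.Agent.S1418.result hG M hM E hE p hp A ⟨hAE, hA, hA2⟩
  have h19 := Cfsg.Agent.S1419.result hG M hM E hE p hp hS A ⟨hAE, hA, hA2⟩
  have hZc := h19.2.1.1
  have hpσ : p ∉ Cfsg.sigma M := hp.2.1
  have hy2 : y ^ (p ^ 2) = 1 := by rw [pow_two, pow_mul, hA.2 _ hyZ.1]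
  obtain ⟨k, -, hk⟩ := (Nat.dvd_prime_pow hpp).mp (orderOf_dvd_of_pow_eq_one hy2)
  have hyp : IsPGroup p (zpowers y) := IsPGroup.of_card (n := k) (by rw [Nat.card_zpowers, hk])
  have hAp : IsPGroup p A := Cfsg.Agent.Lib.Helper2.ea_isPGroup hA
  have hPp : IsPGroup p (zpowers y ⊔ A : Subgroup G) :=
    hyp.to_sup_of_normal_right' hAp (zpowers_le.2 (h18.1.1 hy))
  obtain ⟨S, hPS⟩ := hPp.exists_le_sylow
  have hyS : y ∈ (S : Subgroup G) := hPS (mem_sup_left (mem_zpowers y))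
  have hAS : A ≤ (S : Subgroup G) := le_sup_right.trans hPS
  have hmax := (Cfsg.Agent.S1408.result hG M hM p hpσ hp.2.2.1 hp.2.2.2).2 A (hAE.trans hE.1) hA hA2
  by_cases hc : ∀ s ∈ (S : Subgroup G), s * y ^ p = y ^ p * s
  · -- `S ≤ C(Z) ≤ M` is abelian
    have hSZ : (S : Subgroup G) ≤
        centralizer ((A ⊓ centralizer (Cfsg.sigmaCore M : Set G) : Subgroup G) : Set G) := by
      intro s hs
      rw [mem_centralizer_iff]
      intro z hz
      have h1 : (⟨z, hz⟩ : ↥(A ⊓ centralizer (Cfsg.sigmaCore M : Set G))) ∈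
          zpowers (⟨y ^ p, hyZ⟩ : ↥(A ⊓ centralizer (Cfsg.sigmaCore M : Set G))) :=
        mem_zpowers_of_prime_card hZc (by intro h; exact ha (congrArg Subtype.val h))
      obtain ⟨j, hj⟩ := h1
      have h2 : (y ^ p) ^ j = z := congrArg Subtype.val hj
      rw [← h2]
      exact ((show Commute (y ^ p) s from (hc s hs).symm).zpow_left j).eq
    have hne : Cfsg.sigmaCore M ⊓
        centralizer ((A ⊓ centralizer (Cfsg.sigmaCore M : Set G) : Subgroup G) : Set G) ≠ ⊥ := by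
      have h1 : Cfsg.sigmaCore M ≤
          centralizer ((A ⊓ centralizer (Cfsg.sigmaCore M : Set G) : Subgroup G) : Set G) :=
        le_centralizer_iff.mp inf_le_right
      rw [inf_eq_left.2 h1]
      exact Cfsg.Agent.Lib.Helper28.BG12.sigmaCore_ne_bot hG hM
    have hCM := (h18.2.2 _ inf_le_left hZc hne).1
    apply hS S
    refine ⟨⟨fun a b => Subtype.ext ?_⟩⟩
    exact Cfsg.Agent.Lib.Helper28.BG12.comm_of_isPGroup_sigma' hG
      (fun M hM p _ hp A hA => Cfsg.Agent.S1417.result hG M hM p hp A hA) hM hpσ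
      (hSZ.trans hCM) S.isPGroup' a.2 b.2
  · push Not at hc
    obtain ⟨s, hs, hsa⟩ := hc
    exact Cfsg.Agent.Lib.Helper13.BG127.not_pth_power hG S hAS hA hA2 hmax hyZ.1 hs hsa y hyS rfl

/-- an element of prime order of `E` with a fixed point on `M_σ` generates `Z`. -/
theorem na_singular (hG : Cfsg.IsMinSimpleOddOrder G) (hM : IsCoatom M)
    (hE : Cfsg.IsComplIn E (Cfsg.sigmaCore M) M) (h : Hyp M E) (hp : p ∈ Cfsg.tau2 M)
    (hS : ∀ S : Sylow p G, ¬ IsMulCommutative (S : Subgroup G))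
    (hAE : A ≤ E) (hA : Cfsg.IsElementaryAbelian p A) (hA2 : Nat.card A = p ^ 2) {e : G}
    (he : e ∈ E) (her : (orderOf e).Prime)
    (hne : Cfsg.sigmaCore M ⊓ centralizer ({e} : Set G) ≠ ⊥) :
    orderOf e = p ∧ e ∈ A ⊓ centralizer (Cfsg.sigmaCore M : Set G) := by
  have h19 := Cfsg.Agent.S1419.result hG M hM E hE p hp hS A ⟨hAE, hA, hA2⟩
  have he1 : e ≠ 1 := by
    rintro rfl
    rw [orderOf_one] at her
    exact Nat.not_prime_one her
  have hdE : orderOf e ∣ Nat.card E := by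
    have := orderOf_dvd_natCard (⟨e, he⟩ : E)
    rwa [Subgroup.orderOf_mk] at this
  have hrσ := Cfsg.Agent.Lib.Helper28.BG12.not_mem_sigma_of_dvd_compl hG hM hE her hdE
  have hτ : orderOf e ∈ Cfsg.tau2 M := by
    rcases Cfsg.Agent.Lib.Helper58.BG13.tau_cases hG hM her
      (hdE.trans (Subgroup.card_dvd_of_le hE.1)) hrσ with h1 | h1 | h1
    · exact absurd (h e he he1 (fun q hq hqd => by
        rw [(Nat.prime_dvd_prime_iff_eq hq her).mp hqd]; exact Or.inl h1)) hne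
    · exact h1
    · exact absurd (h e he he1 (fun q hq hqd => by
        rw [(Nat.prime_dvd_prime_iff_eq hq her).mp hqd]; exact Or.inr h1)) hne
  rw [h19.1] at hτ
  have hep : orderOf e = p := hτ
  refine ⟨hep, ?_⟩
  by_contra hn
  have h3 := (h19.2.2 (zpowers e) (zpowers_le.2 he) (by rw [Nat.card_zpowers, hep]) (by
    intro h4
    apply hn
    rw [← h4]
    exact mem_zpowers e)).1
  apply hne
  rw [eq_bot_iff, ← h3]
  exact inf_le_inf_left _ (fun x hx => na_centralizer_zpowers hx)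

theorem na_exists_prime_pow {e : G} (he1 : e ≠ 1) :
    ∃ r : ℕ, r.Prime ∧ r ∣ orderOf e ∧ orderOf (e ^ (orderOf e / r)) = r := by
  have h1 : orderOf e ≠ 1 := fun h => he1 (orderOf_eq_one_iff.mp h)
  obtain ⟨r, hr, hrd⟩ := Nat.exists_prime_and_dvd h1
  exact ⟨r, hr, hrd, orderOf_pow_orderOf_div (orderOf_pos e).ne' hrd⟩

theorem na_conclA (hG : Cfsg.IsMinSimpleOddOrder G) (hM : IsCoatom M)
    (hE : Cfsg.IsComplIn E (Cfsg.sigmaCore M) M) (h : Hyp M E) (hp : p ∈ Cfsg.tau2 M)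
    (hS : ∀ S : Sylow p G, ¬ IsMulCommutative (S : Subgroup G))
    (hAE : A ≤ E) (hA : Cfsg.IsElementaryAbelian p A) (hA2 : Nat.card A = p ^ 2) :
    ConclA M E := by
  have hpp : p.Prime := Fact.out
  have h18 := Cfsg.Agent.S1418.result hG M hM E hE p hp A ⟨hAE, hA, hA2⟩
  refine ⟨A ⊓ centralizer (Cfsg.sigmaCore M : Set G), inf_le_left.trans hAE, ?_, ?_, ?_⟩
  · exact le_normalizer_inf h18.1.1 ((hE.1.trans
      (Cfsg.Agent.Lib.Helper28.BG12.le_normalizer_sigmaCore M)).trans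
      (normalizer_le_normalizer_centralizer _))
  · exact ⟨⟨fun a b => Subtype.ext
      (Cfsg.Agent.Lib.Helper28.BG12.comm_of_isMulCommutative hA.1 a.2.1 b.2.1)⟩⟩
  · intro x hx hx1 e he
    by_cases he1 : e = 1
    · rw [he1]; exact one_mem _
    have hxe : ∀ k : ℕ, Cfsg.sigmaCore M ⊓ centralizer ({e ^ k} : Set G) ≠ ⊥ := by
      intro k hb
      have h1 : x ∈ Cfsg.sigmaCore M ⊓ centralizer ({e ^ k} : Set G) := by
        refine ⟨hx, na_centralizer_pow ?_ k⟩
        rw [mem_centralizer_singleton_iff]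
        exact ((mem_centralizer_singleton_iff.mp he.2)).symm
      rw [hb, mem_bot] at h1
      exact hx1 h1
    -- every prime divisor of the order of `e` is `p`
    have hall : ∀ {r : ℕ}, r.Prime → r ∣ orderOf e → r = p := by
      intro r hr hrd
      have ho : orderOf (e ^ (orderOf e / r)) = r :=
        orderOf_pow_orderOf_div (orderOf_pos e).ne' hrd
      have := (na_singular hG hM hE h hp hS hAE hA hA2 (pow_mem he.1 _) (by rw [ho]; exact hr)
        (hxe _)).1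
      rw [← ho, this]
    have hpow := Nat.eq_prime_pow_of_unique_prime_dvd (orderOf_pos e).ne' hall
    obtain ⟨k, hk⟩ : ∃ k, k = (orderOf e).primeFactorsList.length := ⟨_, rfl⟩
    rw [← hk] at hpow
    have hk0 : k ≠ 0 := by
      intro h0
      rw [h0, pow_zero] at hpow
      exact he1 (orderOf_eq_one_iff.mp hpow)
    have hpd : p ∣ orderOf e := by rw [hpow]; exact dvd_pow_self p hk0
    have ho : orderOf (e ^ (orderOf e / p)) = p :=
      orderOf_pow_orderOf_div (orderOf_pos e).ne' hpd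
    have hZ := (na_singular hG hM hE h hp hS hAE hA hA2 (pow_mem he.1 _) (by rw [ho]; exact hpp)
        (hxe _)).2
    by_cases hk1 : k = 1
    · rw [hk1, pow_one] at hpow
      rw [hpow, Nat.div_self hpp.pos, pow_one] at hZ
      exact hZ
    · exfalso
      obtain ⟨j, rfl⟩ : ∃ j, k = j + 2 := ⟨k - 2, by omega⟩
      have e1 : orderOf e / p = p ^ j * p := by
        rw [hpow, pow_succ, Nat.mul_div_cancel _ hpp.pos, pow_succ]
      rw [e1, pow_mul] at hZ ho
      have h1 := na_star hG hM hE hp hS hAE hA hA2 (pow_mem he.1 (p ^ j)) hZ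
      rw [h1, orderOf_one] at ho
      exact hpp.one_lt.ne ho

theorem na_le_normalizer (hG : Cfsg.IsMinSimpleOddOrder G) (hM : IsCoatom M)
    (hE : Cfsg.IsComplIn E (Cfsg.sigmaCore M) M) (hp : p ∈ Cfsg.tau2 M)
    (hAE : A ≤ E) (hA : Cfsg.IsElementaryAbelian p A) (hA2 : Nat.card A = p ^ 2) :
    E ≤ normalizer ((A ⊓ centralizer (Cfsg.sigmaCore M : Set G) : Subgroup G) : Set G) :=
  le_normalizer_inf (Cfsg.Agent.S1418.result hG M hM E hE p hp A ⟨hAE, hA, hA2⟩).1.1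
    ((hE.1.trans (Cfsg.Agent.Lib.Helper28.BG12.le_normalizer_sigmaCore M)).trans
      (normalizer_le_normalizer_centralizer _))

/-- Gaschütz: `Z` has a complement in `E`. -/
theorem na_compl (hG : Cfsg.IsMinSimpleOddOrder G) (hM : IsCoatom M)
    (hE : Cfsg.IsComplIn E (Cfsg.sigmaCore M) M) (hp : p ∈ Cfsg.tau2 M)
    (hS : ∀ S : Sylow p G, ¬ IsMulCommutative (S : Subgroup G))
    (hAE : A ≤ E) (hA : Cfsg.IsElementaryAbelian p A) (hA2 : Nat.card A = p ^ 2) :
    ∃ E₀ : Subgroup G, E₀ ≤ E ∧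
      (∀ g ∈ A ⊓ centralizer (Cfsg.sigmaCore M : Set G), g ∈ E₀ → g = 1) ∧
      (∀ g ∈ E, ∃ z ∈ A ⊓ centralizer (Cfsg.sigmaCore M : Set G), ∃ h ∈ E₀, g = z * h) ∧
      Nat.card E = p * Nat.card E₀ := by
  have hpp : p.Prime := Fact.out
  have hpσ : p ∉ Cfsg.sigma M := hp.2.1
  have h19 := Cfsg.Agent.S1419.result hG M hM E hE p hp hS A ⟨hAE, hA, hA2⟩
  have hZc := h19.2.1.1
  obtain ⟨Z, hZdef⟩ : ∃ Z : Subgroup G, Z = A ⊓ centralizer (Cfsg.sigmaCore M : Set G) :=
    ⟨_, rfl⟩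
  have hEZ := na_le_normalizer hG hM hE hp hAE hA hA2
  have hstar := fun (y : G) (hy : y ∈ E) => na_star hG hM hE hp hS hAE hA hA2 (y := y) hy
  rw [← hZdef] at hZc hEZ hstar ⊢
  have hZA : Z ≤ A := hZdef ▸ inf_le_left
  have hZE : Z ≤ E := hZA.trans hAE
  have hKn : (Z.subgroupOf E).Normal := (normal_subgroupOf_iff_le_normalizer hZE).mpr hEZ
  have hKc : IsMulCommutative (Z.subgroupOf E) := ⟨⟨fun a b => Subtype.ext (Subtype.ext
    (Cfsg.Agent.Lib.Helper28.BG12.comm_of_isMulCommutative hA.1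
      (hZA (mem_subgroupOf.mp a.2)) (hZA (mem_subgroupOf.mp b.2))))⟩⟩
  have hKcard : Nat.card (Z.subgroupOf E) = p := by
    rw [Nat.card_congr (subgroupOfEquivOfLe hZE).toEquiv]; exact hZc
  have hKp : IsPGroup p (Z.subgroupOf E) := IsPGroup.of_card (n := 1) (by rw [hKcard, pow_one])
  obtain ⟨Q, hKQ⟩ := hKp.exists_le_sylow
  have hQc : ∀ a ∈ (Q : Subgroup ↥E), ∀ b ∈ (Q : Subgroup ↥E), a * b = b * a := by
    intro a ha b hb
    apply Subtype.ext
    exact Cfsg.Agent.Lib.Helper28.BG12.comm_of_isPGroup_sigma' hG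
      (fun M hM p _ hp A hA => Cfsg.Agent.S1417.result hG M hM p hp A hA) hM hpσ
      (X := (Q : Subgroup ↥E).map E.subtype) ((map_subtype_le _).trans hE.1)
      (Q.isPGroup'.map _) (mem_map_of_mem _ ha) (mem_map_of_mem _ hb)
  obtain ⟨H, hHQ, hHK, hHKs⟩ := Cfsg.Agent.Lib.Helper62.BG1212.split Q.isPGroup' hQc hKQ hKcard (by
    intro y hy hyK
    apply Subtype.ext
    exact hstar y y.2 (mem_subgroupOf.mp hyK))
  have hcop : (Nat.card (Z.subgroupOf E)).Coprime (Q : Subgroup ↥E).index := by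
    rw [hKcard, Nat.Prime.coprime_iff_not_dvd hpp]; exact Q.not_dvd_index
  obtain ⟨E₀', hc⟩ := Cfsg.Agent.Lib.Helper2.gaschutz_exists (Z.subgroupOf E) (Q : Subgroup ↥E) H
    hcop hHK (by rw [sup_comm]; exact hHKs)
  refine ⟨E₀'.map E.subtype, map_subtype_le _, ?_, ?_, ?_⟩
  · intro g hgZ hgE₀
    obtain ⟨g', hg', rfl⟩ := mem_map.mp hgE₀
    have h1 : g' ∈ Z.subgroupOf E ⊓ E₀' := ⟨mem_subgroupOf.mpr hgZ, hg'⟩
    rw [hc.disjoint.eq_bot, mem_bot] at h1
    rw [h1]; rfl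
  · intro g hg
    obtain ⟨⟨k, h⟩, e⟩ := hc.2 ⟨g, hg⟩
    exact ⟨k, mem_subgroupOf.mp k.2, h, mem_map_of_mem _ h.2, (congrArg Subtype.val e).symm⟩
  · rw [← hc.card_mul_card, hKcard, Subgroup.card_map_of_injective E.subtype_injective]

theorem na_conclB (hG : Cfsg.IsMinSimpleOddOrder G) (hM : IsCoatom M)
    (hE : Cfsg.IsComplIn E (Cfsg.sigmaCore M) M) (h : Hyp M E) (hp : p ∈ Cfsg.tau2 M)
    (hS : ∀ S : Sylow p G, ¬ IsMulCommutative (S : Subgroup G))
    (hAE : A ≤ E) (hA : Cfsg.IsElementaryAbelian p A) (hA2 : Nat.card A = p ^ 2) :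
    ConclB M E := by
  have hpp : p.Prime := Fact.out
  obtain ⟨E₀, hE₀E, hdisj, hdec, hcard⟩ := na_compl hG hM hE hp hS hAE hA hA2
  have hEZ := na_le_normalizer hG hM hE hp hAE hA hA2
  refine ⟨E₀, hE₀E, ?_, ?_⟩
  · apply Nat.dvd_antisymm
    · apply Monoid.exponent_dvd_of_forall_pow_eq_one
      intro g
      apply Subtype.ext
      have h1 : ((⟨g, hE₀E g.2⟩ : E) ^ Monoid.exponent E : E) = 1 := Monoid.pow_exponent_eq_one _
      have h2 : ((g : G)) ^ Monoid.exponent E = 1 := congrArg (Subtype.val : E → G) h1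
      exact h2
    · apply Monoid.exponent_dvd_of_forall_pow_eq_one
      intro g
      have hpE₀ : p ∣ Nat.card E₀ := by
        have h1 : p ^ 2 ∣ Nat.card E := hA2 ▸ Subgroup.card_dvd_of_le hAE
        rw [hcard, pow_two] at h1
        exact Nat.dvd_of_mul_dvd_mul_left hpp.pos h1
      obtain ⟨v, hv⟩ := exists_prime_orderOf_dvd_card' (G := E₀) p hpE₀
      obtain ⟨m, hm⟩ : p ∣ Monoid.exponent E₀ := hv ▸ Monoid.order_dvd_exponent v
      obtain ⟨z, hz, h', hh', e⟩ := hdec g g.2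
      obtain ⟨z', hz', e2⟩ := na_pow_mul hz (hEZ (hE₀E hh')) (Monoid.exponent E₀)
      have hn1 : h' ^ Monoid.exponent E₀ = 1 :=
        congrArg Subtype.val (Monoid.pow_exponent_eq_one (⟨h', hh'⟩ : E₀))
      have h3 : (g : G) ^ Monoid.exponent E₀ = z' := by rw [e, e2, hn1, mul_one]
      have h4 := na_star hG hM hE hp hS hAE hA hA2 (y := (g : G) ^ m) (pow_mem g.2 m) (by
        rw [← pow_mul, mul_comm, ← hm, h3]; exact hz')
      apply Subtype.ext
      show (g : G) ^ Monoid.exponent E₀ = 1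
      rw [hm, mul_comm, pow_mul]; exact h4
  · intro e he he1
    by_contra hne
    obtain ⟨r, hr, hrd, ho⟩ := na_exists_prime_pow he1
    have h2 := (na_singular hG hM hE h hp hS hAE hA hA2 (pow_mem (hE₀E he) _)
      (by rw [ho]; exact hr) (by
        intro hb
        apply hne
        rw [eq_bot_iff, ← hb]
        exact inf_le_inf_left _ (fun x hx => na_centralizer_pow hx _))).2
    have h3 := hdisj _ h2 (pow_mem he _)
    rw [h3, orderOf_one] at ho
    exact hr.one_lt.ne ho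

/-- RUNG NA. -/
theorem na (hG : Cfsg.IsMinSimpleOddOrder G) (hM : IsCoatom M)
    (hE : Cfsg.IsComplIn E (Cfsg.sigmaCore M) M) (h : Hyp M E) {p : ℕ} [Fact p.Prime]
    (hp : p ∈ Cfsg.tau2 M) (hS : ∀ S : Sylow p G, ¬ IsMulCommutative (S : Subgroup G)) :
    ConclA M E ∧ ConclB M E := by
  obtain ⟨A, hAE, hA, hA2⟩ := Cfsg.Agent.Lib.Helper28.BG12.exists_ea_sq_in_compl hG hM hE hp
  exact ⟨na_conclA hG hM hE h hp hS hAE hA hA2, na_conclB hG hM hE h hp hS hAE hA hA2⟩

end Cfsg.Agent.Lib.Helper29.BG1212
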