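import Cfsg.Agent.Lib.Helper2.BG139Defs
import Cfsg.Agent.Lib.Helper29.BG139F
import Cfsg.Agent.Lib.Helper53.Large

/-!
Ladder BG139 (S1378, B-G 13.9), rung R11a.
-/

set_option autoImplicit false
set_option linter.unusedSectionVars false
set_option linter.unusedVariables false

namespace Cfsg.Agent.Lib.Helper29.BG139

open Subgroup Cfsg.Agent.Lib.Helper30 Cfsg.Agent.Lib.Helper2 Cfsg.Agent.Lib.Helper2.BG12
  Cfsg.Agent.Lib.Helper68 Cfsg.Agent.Lib.Helper2.BG139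

universe u

variable {G : Type u} [Group G]

/-- `r ∈ β(M)`, `x ∈ M` of order `r`: `C_G(x) ≤ M`. -/
theorem centralizer_le_of_beta [Finite G] (T : Texts G) {M : Subgroup G} (hM : IsCoatom M) {r : ℕ}
    [Fact r.Prime] (hr : r ∈ Cfsg.beta M) {x : G} (hxM : x ∈ M) (hx : orderOf x = r) :
    centralizer ((zpowers x : Subgroup G) : Set G) ≤ M := by
  have hσ : r ∈ Cfsg.sigma M := mem_sigma_of_mem_alpha T.hG T.hU hM hr.1
  exact (T.t23 M hM r hσ (zpowers x) (by rwa [zpowers_le]) (by rw [Nat.card_zpowers, hx]) default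
    (Or.inl hr)).1.1

/-- FACT: `r ∈ β(M)`, `1 ≠ T₀ ≤ M` an `r`-group: `N_G(T₀) ≤ M`. -/
theorem normalizer_le_of_beta [Finite G] (T : Texts G) {M : Subgroup G} (hM : IsCoatom M) {r : ℕ}
    [Fact r.Prime] (hr : r ∈ Cfsg.beta M) {T₀ : Subgroup G} (hT₀ : IsPGroup r T₀) (hT₁ : T₀ ≠ ⊥)
    (hT₀M : T₀ ≤ M) : normalizer (T₀ : Set G) ≤ M := by
  have hσ : r ∈ Cfsg.sigma M := mem_sigma_of_mem_alpha T.hG T.hU hM hr.1
  obtain ⟨z, hz, hzo⟩ := exists_orderOf_eq_of_ne_bot hT₀ hT₁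
  rw [(T.t04 M hM r hσ T₀ hT₀ hT₁ hT₀M).2]
  refine sup_le inf_le_left ?_
  exact (centralizer_le (by rwa [SetLike.coe_subset_coe, zpowers_le])).trans
    (centralizer_le_of_beta T hM hr (hT₀M hz) hzo)

theorem le_of_opIn_ne_bot [Finite G] (T : Texts G) {M W : Subgroup G} (hM : IsCoatom M) {r : ℕ}
    [Fact r.Prime] (hr : r ∈ Cfsg.beta M) {T₀ : Subgroup G} (hT₀ : IsPGroup r T₀) (hT₁ : T₀ ≠ ⊥)
    (hT₀W : T₀ ≤ W) (hWT₀ : W ≤ normalizer (T₀ : Set G)) {x : G} (hxW : x ∈ W) (hxM : x ∈ M)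
    (hx : orderOf x = r) : W ≤ M := by
  have hxp : IsPGroup r (zpowers x) := by
    apply IsPGroup.of_card (n := 1)
    rw [Nat.card_zpowers, hx, pow_one]
  have hxN : zpowers x ≤ normalizer (T₀ : Set G) := by
    rw [zpowers_le]; exact hWT₀ hxW
  have hA : IsPGroup r (zpowers x ⊔ T₀ : Subgroup G) := hxp.to_sup_of_normal_right' hT₀ hxN
  have h1 := Cfsg.Agent.Lib.Helper53.inf_centralizer_ne_bot hA hT₀ hT₁ (sup_le hxN le_normalizer)
  obtain ⟨z, hz, hzo⟩ := exists_orderOf_eq_of_ne_bot (hT₀.to_le inf_le_left) h1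
  have hzx : z ∈ centralizer ((zpowers x : Subgroup G) : Set G) :=
    centralizer_le (le_sup_left : zpowers x ≤ zpowers x ⊔ T₀) hz.2
  have hzM : z ∈ M := centralizer_le_of_beta T hM hr hxM hx hzx
  have hzT : zpowers z ≤ centralizer (T₀ : Set G) := by
    rw [zpowers_le]
    exact centralizer_le (le_sup_right : T₀ ≤ zpowers x ⊔ T₀) hz.2
  have hT₀M : T₀ ≤ M := (le_centralizer_iff.mp hzT).trans (centralizer_le_of_beta T hM hr hzM hzo)
  exact hWT₀.trans (normalizer_le_of_beta T hM hr hT₀ hT₁ hT₀M)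

end Cfsg.Agent.Lib.Helper29.BG139
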