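import Cfsg.Agent.Lib.Helper29.BG139R10
import Cfsg.Agent.Lib.Helper29.BG139R11b

/-!
Ladder BG139 (S1378, B-G 13.9), rung R11b with the exact signature of the skeleton.
-/

set_option autoImplicit false
set_option linter.unusedSectionVars false

namespace Cfsg.Agent.Lib.Helper29.BG139

open Subgroup Cfsg.Agent.Lib.Helper30 Cfsg.Agent.Lib.Helper2 Cfsg.Agent.Lib.Helper2.BG12
  Cfsg.Agent.Lib.Helper68 Cfsg.Agent.Lib.Helper2.BG139

universe u

variable {G : Type u} [Group G]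

theorem Cfg2.exists_cross [Finite G] (T : Texts G) {q p : ℕ} {M N S P : Subgroup G}
    (h : Cfg2 q p M N S P) :
    (∃ y ∈ M ⊓ centralizer (P : Set G), orderOf y ∈ Cfsg.beta N) ∨
      (∃ y ∈ N ⊓ centralizer (P : Set G), orderOf y ∈ Cfsg.beta M) :=
  Cfg2.exists_cross_of T h (Cfg2.cent_P_ne_bot T h) (Cfg2.cent_P_ne_bot T h.symm)

end Cfsg.Agent.Lib.Helper29.BG139
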