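import Mathlib

/-! DC ladder (helper6), rung CONJ: involutions of `A_n`, `n ≤ 7`, are conjugate in `A_n`. -/

namespace Cfsg.Agent.Lib.Helper29.DC

open Equiv Equiv.Perm

/-- the cycle type of an even involution on at most seven points -/
theorem conj_cycleType (n : ℕ) (h7 : n ≤ 7) (s : Perm (Fin n)) (hs : orderOf s = 2)
    (hsgn : sign s = 1) : s.cycleType = Multiset.replicate 2 2 := by
  obtain ⟨k, hk⟩ := cycleType_prime_order (σ := s) (by rw [hs]; exact Nat.prime_two)
  rw [hs] at hk
  have hsum : s.cycleType.sum = s.support.card := sum_cycleType s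
  have hcard : s.support.card ≤ n := by
    have := Finset.card_le_univ s.support
    simpa using this
  rw [hk, Multiset.sum_replicate, smul_eq_mul] at hsum
  have hk3 : k + 1 ≤ 3 := by omega
  have hsign := sign_of_cycleType s
  rw [hk, Multiset.sum_replicate, Multiset.card_replicate, hsgn] at hsign
  have hk2 : k + 1 = 2 := by
    have h1 : k = 0 ∨ k = 1 ∨ k = 2 := by omega
    rcases h1 with rfl | rfl | rfl
    · exact absurd hsign (by decide)
    · rfl
    · exact absurd hsign (by decide)
  rw [hk, hk2]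

theorem conj_inv (n : ℕ) (h7 : n ≤ 7) (s t : alternatingGroup (Fin n)) (hs : orderOf s = 2)
    (ht : orderOf t = 2) : IsConj s t := by
  have hs' : orderOf (s : Perm (Fin n)) = 2 := by rw [Subgroup.orderOf_coe]; exact hs
  have ht' : orderOf (t : Perm (Fin n)) = 2 := by rw [Subgroup.orderOf_coe]; exact ht
  have hcs := conj_cycleType n h7 s hs' (mem_alternatingGroup.1 s.2)
  have hct := conj_cycleType n h7 t ht' (mem_alternatingGroup.1 t.2)
  obtain ⟨g, hg⟩ := isConj_iff.1 ((isConj_iff_cycleType_eq).2 (hcs.trans hct.symm))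
  -- an odd permutation commuting with `s`
  have hs1 : (s : Perm (Fin n)) ≠ 1 := by
    intro h
    rw [h, orderOf_one] at hs'
    omega
  obtain ⟨a, ha⟩ : ∃ a, (s : Perm (Fin n)) a ≠ a := by
    by_contra hcon
    push Not at hcon
    exact hs1 (Equiv.ext hcon)
  have hss : (s : Perm (Fin n)) ((s : Perm (Fin n)) a) = a := by
    have h2 : (s : Perm (Fin n)) ^ 2 = 1 := by rw [← hs']; exact pow_orderOf_eq_one _
    have := congrArg (fun f : Perm (Fin n) => f a) h2
    simpa [sq] using this
  have hw : (s : Perm (Fin n)) * swap a ((s : Perm (Fin n)) a) * (s : Perm (Fin n))⁻¹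
      = swap a ((s : Perm (Fin n)) a) := by
    rw [← Equiv.swap_apply_apply, hss, swap_comm]
  have hwsgn : sign (swap a ((s : Perm (Fin n)) a)) = -1 := sign_swap (Ne.symm ha)
  rcases Int.units_eq_one_or (sign g) with hgs | hgs
  · exact isConj_iff.2 ⟨⟨g, mem_alternatingGroup.2 hgs⟩, Subtype.ext hg⟩
  · refine isConj_iff.2 ⟨⟨g * swap a ((s : Perm (Fin n)) a), mem_alternatingGroup.2 ?_⟩,
      Subtype.ext ?_⟩
    · rw [Perm.sign_mul, hgs, hwsgn]; rfl
    · have hw' : swap a ((s : Perm (Fin n)) a) * (s : Perm (Fin n))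
          * (swap a ((s : Perm (Fin n)) a))⁻¹ = s := by
        have h3 : (s : Perm (Fin n)) * swap a ((s : Perm (Fin n)) a)
            = swap a ((s : Perm (Fin n)) a) * s := mul_inv_eq_iff_eq_mul.1 hw
        rw [← h3, mul_assoc, mul_inv_cancel, mul_one]
      show g * swap a ((s : Perm (Fin n)) a) * (s : Perm (Fin n))
        * (g * swap a ((s : Perm (Fin n)) a))⁻¹ = t
      rw [← hg]
      conv_rhs => rw [← hw']
      group

end Cfsg.Agent.Lib.Helper29.DC
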