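import Mathlib
import Cfsg.Agent.Lib.Helper29.DCDih

/-! DC ladder (helper6), rung PAIR: a dihedral Sylow 2-subgroup of `A_n`, `4 ≤ n ≤ 7`. -/

namespace Cfsg.Agent.Lib.Helper29.DC

open Equiv Equiv.Perm

theorem pair_card {G : Type*} [Group G] [Finite G] (a b : G) (k : ℕ) (hk : 0 < k)
    (ha : a ^ 2 = 1) (hb : b ^ 2 = 1) (ho : orderOf (a * b) = 2 * k)
    (hna : a ∉ Subgroup.zpowers (a * b)) :
    Nat.card (Subgroup.closure ({a, b} : Set G)) = 4 * k := by
  obtain ⟨-, hle⟩ := dih a b (2 * k) (by omega) ha hb (by rw [← ho]; exact pow_orderOf_eq_one _)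
  have haC : a ∈ Subgroup.closure ({a, b} : Set G) := Subgroup.subset_closure (by simp)
  have hbC : b ∈ Subgroup.closure ({a, b} : Set G) := Subgroup.subset_closure (by simp)
  have hz : Subgroup.zpowers (a * b) ≤ Subgroup.closure ({a, b} : Set G) :=
    Subgroup.zpowers_le.2 (mul_mem haC hbC)
  obtain ⟨j, hj⟩ := Subgroup.card_dvd_of_le hz
  rw [Nat.card_zpowers, ho] at hj
  have hpos : 0 < Nat.card (Subgroup.closure ({a, b} : Set G)) := Nat.card_pos
  have hj1 : j ≠ 1 := by
    rintro rfl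
    have heq : Subgroup.zpowers (a * b) = Subgroup.closure ({a, b} : Set G) :=
      Subgroup.eq_of_le_of_card_ge hz (by rw [Nat.card_zpowers, ho, hj, mul_one])
    exact hna (heq ▸ haC)
  have hj0 : j ≠ 0 := by
    rintro rfl
    omega
  have hj2 : j ≤ 2 := by
    by_contra h
    have h3 : 3 ≤ j := by omega
    have : 2 * k * 3 ≤ 2 * k * j := Nat.mul_le_mul_left _ h3
    omega
  have : j = 2 := by omega
  subst this
  omega

theorem pair_of (n : ℕ) (A B : Perm (Fin n)) (k r : ℕ) (hk : 0 < k) (hA : sign A = 1)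
    (hB : sign B = 1) (hA2 : A ^ 2 = 1) (hA1 : A ≠ 1) (hB2 : B ^ 2 = 1) (hB1 : B ≠ 1)
    (ho : orderOf (A * B) = 2 * k) (hna : ∀ j < 2 * k, (A * B) ^ j ≠ A)
    (hr : n.factorial / 2 = 4 * k * r) (hodd : ¬ 2 ∣ r) :
    ∃ (a b : alternatingGroup (Fin n)) (k : ℕ),
    orderOf a = 2 ∧ orderOf b = 2 ∧ orderOf ((a * b) ^ k) = 2 ∧
    Nat.card (Subgroup.closure ({a, b} : Set (alternatingGroup (Fin n)))) = 4 * k ∧
    ¬ 2 ∣ (Subgroup.closure ({a, b} : Set (alternatingGroup (Fin n)))).index := by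
  have : Fact (Nat.Prime 2) := ⟨Nat.prime_two⟩
  have hnt : Nontrivial (Fin n) := by
    by_contra hcon
    rw [not_nontrivial_iff_subsingleton] at hcon
    exact hA1 (Subsingleton.elim _ _)
  let a : alternatingGroup (Fin n) := ⟨A, mem_alternatingGroup.2 hA⟩
  let b : alternatingGroup (Fin n) := ⟨B, mem_alternatingGroup.2 hB⟩
  have ha2 : a ^ 2 = 1 := Subtype.ext hA2
  have hb2 : b ^ 2 = 1 := Subtype.ext hB2
  have ho' : orderOf (a * b) = 2 * k := by
    rw [← Subgroup.orderOf_coe]; exact ho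
  have hna' : a ∉ Subgroup.zpowers (a * b) := by
    intro h
    rw [← mem_powers_iff_mem_zpowers, mem_powers_iff_mem_range_orderOf, ho'] at h
    obtain ⟨j, hj, hja⟩ := Finset.mem_image.1 h
    exact hna j (Finset.mem_range.1 hj) (congrArg Subtype.val hja)
  have hcard := pair_card a b k hk ha2 hb2 ho' hna'
  refine ⟨a, b, k, orderOf_eq_prime ha2 (fun h => hA1 (congrArg Subtype.val h)),
    orderOf_eq_prime hb2 (fun h => hB1 (congrArg Subtype.val h)), ?_, hcard, ?_⟩
  · rw [orderOf_pow' _ hk.ne', ho']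
    have : Nat.gcd (2 * k) k = k := Nat.gcd_eq_right (Dvd.intro_left 2 rfl)
    rw [this]
    exact Nat.mul_div_cancel _ hk
  · have h1 := (Subgroup.closure ({a, b} : Set (alternatingGroup (Fin n)))).card_mul_index
    rw [hcard, nat_card_alternatingGroup, Nat.card_eq_fintype_card, Fintype.card_fin, hr] at h1
    have h2 : (Subgroup.closure ({a, b} : Set (alternatingGroup (Fin n)))).index = r :=
      Nat.eq_of_mul_eq_mul_left (by omega) h1
    rw [h2]
    exact hodd

theorem pair (n : ℕ) (h4 : 4 ≤ n) (h7 : n ≤ 7) : ∃ (a b : alternatingGroup (Fin n)) (k : ℕ),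
    orderOf a = 2 ∧ orderOf b = 2 ∧ orderOf ((a * b) ^ k) = 2 ∧
    Nat.card (Subgroup.closure ({a, b} : Set (alternatingGroup (Fin n)))) = 4 * k ∧
    ¬ 2 ∣ (Subgroup.closure ({a, b} : Set (alternatingGroup (Fin n)))).index := by
  have : Fact (Nat.Prime 2) := ⟨Nat.prime_two⟩
  interval_cases n
  · refine pair_of 4 (swap 0 1 * swap 2 3) (swap 0 2 * swap 1 3) 1 3 (by norm_num) (by decide)
      (by decide) (by decide) (by decide) (by decide) (by decide)
      (orderOf_eq_prime (by decide) (by decide)) (by decide) (by decide) (by decide)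
  · refine pair_of 5 (swap 0 1 * swap 2 3) (swap 0 2 * swap 1 3) 1 15 (by norm_num) (by decide)
      (by decide) (by decide) (by decide) (by decide) (by decide)
      (orderOf_eq_prime (by decide) (by decide)) (by decide) (by decide) (by decide)
  · refine pair_of 6 (swap 0 2 * swap 4 5) (swap 0 1 * swap 2 3) 2 45 (by norm_num) (by decide)
      (by decide) (by decide) (by decide) (by decide) (by decide)
      (orderOf_eq_prime_pow (p := 2) (n := 1) (by decide) (by decide)) (by decide) (by decide)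
      (by decide)
  · refine pair_of 7 (swap 0 2 * swap 4 5) (swap 0 1 * swap 2 3) 2 315 (by norm_num) (by decide)
      (by decide) (by decide) (by decide) (by decide) (by decide)
      (orderOf_eq_prime_pow (p := 2) (n := 1) (by decide) (by decide)) (by decide) (by decide)
      (by decide)

end Cfsg.Agent.Lib.Helper29.DC
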