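import Mathlib
import Cfsg.Agent.Lib.Helper65.IA.Defs

/-! IA ladder (helper65), rung NO2Q. -/

set_option autoImplicit false

namespace Cfsg.Agent.Lib.Helper29.IA

open Cfsg.Agent.Lib.Helper65.IA

theorem no2_qa_central {G : Type} [Group G] [Finite G] {α : MulAut G} (h2 : No2 α)
    (Q : Subgroup G) [Q.Normal] (hQ : Inv α Q) (hQc : Q ≤ Subgroup.center G) :
    No2 (qa α Q hQ) := by
  intro P hn hi hp
  have : Fact (Nat.Prime 2) := ⟨Nat.prime_two⟩
  set Y : Subgroup G := P.comap (QuotientGroup.mk' Q) with hY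
  have hYmem : ∀ y : G, y ∈ Y ↔ (y : G ⧸ Q) ∈ P := fun y => Iff.rfl
  have hYn : Y.Normal := hn.comap _
  have hYα : ∀ y ∈ Y, α y ∈ Y := by
    intro y hy
    rw [hYmem] at hy ⊢
    have := hi.mem hy
    rwa [qa_mk] at this
  have hYQ : ∀ y ∈ Y, ∃ k : ℕ, y ^ (2 ^ k) ∈ Q := by
    intro y hy
    obtain ⟨k, hk⟩ := hp ⟨(y : G ⧸ Q), hy⟩
    refine ⟨k, ?_⟩
    have h1 : ((y : G ⧸ Q)) ^ (2 ^ k) = 1 := congrArg Subtype.val hk
    rw [← QuotientGroup.mk_pow, QuotientGroup.eq_one_iff] at h1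
    exact h1
  -- `Y` is nilpotent
  have hpq : IsPGroup 2 (↥Y ⧸ Subgroup.center ↥Y) := by
    intro y
    induction y using QuotientGroup.induction_on with
    | H y =>
      obtain ⟨k, hk⟩ := hYQ y y.2
      refine ⟨k, ?_⟩
      rw [← QuotientGroup.mk_pow, QuotientGroup.eq_one_iff, Subgroup.mem_center_iff]
      intro g
      apply Subtype.ext
      have := Subgroup.mem_center_iff.1 (hQc hk) (g : G)
      simpa using this
  have hnil : Group.IsNilpotent ↥Y := Group.of_quotient_center_nilpotent hpq.isNilpotent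
  let P₀ : Sylow 2 ↥Y := default
  have hP₀n : (P₀ : Subgroup ↥Y).Normal :=
    (Group.isNilpotent_of_finite_tfae (G := ↥Y)).out 0 3 rfl rfl |>.mp hnil 2 inferInstance P₀
  set S : Subgroup G := (P₀ : Subgroup ↥Y).map Y.subtype with hS
  have hSmem : ∀ x : G, x ∈ S ↔ x ∈ Y ∧ ∃ k : ℕ, x ^ (2 ^ k) = 1 := by
    intro x
    constructor
    · rintro ⟨y, hy, rfl⟩
      refine ⟨y.2, ?_⟩
      obtain ⟨k, hk⟩ := P₀.2 ⟨y, hy⟩
      refine ⟨k, ?_⟩
      have h1 : y ^ (2 ^ k) = 1 := congrArg Subtype.val hk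
      have h3 : ((y ^ (2 ^ k) : ↥Y) : G) = 1 := by rw [h1]; rfl
      simpa using h3
    · rintro ⟨hxY, k, hk⟩
      have hz : IsPGroup 2 (Subgroup.zpowers (⟨x, hxY⟩ : ↥Y)) := by
        rintro ⟨w, hw⟩
        obtain ⟨j, rfl⟩ := Subgroup.mem_zpowers_iff.1 hw
        refine ⟨k, ?_⟩
        apply Subtype.ext
        apply Subtype.ext
        have h5 : ((x ^ j) ^ (2 ^ k) : G) = 1 := by
          rw [← zpow_natCast, ← zpow_mul, mul_comm, zpow_mul, zpow_natCast, hk, one_zpow]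
        simpa using h5
      obtain ⟨P₁, hP₁⟩ := hz.exists_le_sylow
      have : P₁ = P₀ := by
        let _ := Sylow.unique_of_normal P₀ hP₀n
        exact Subsingleton.elim _ _
      subst this
      exact ⟨⟨x, hxY⟩, hP₁ (Subgroup.mem_zpowers _), rfl⟩
  have hSn : S.Normal := by
    refine ⟨fun x hx g => ?_⟩
    rw [hSmem] at hx ⊢
    obtain ⟨hxY, k, hk⟩ := hx
    exact ⟨hYn.conj_mem x hxY g, k, by rw [conj_pow, hk]; group⟩
  have hSi : Inv α S := by
    apply inv_of_forall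
    intro x hx
    rw [hSmem] at hx ⊢
    obtain ⟨hxY, k, hk⟩ := hx
    exact ⟨hYα x hxY, k, by rw [← map_pow, hk, map_one]⟩
  have hSp : IsPGroup 2 S := P₀.2.map _
  have hSbot : S = ⊥ := h2 S hSn hSi hSp
  rw [eq_bot_iff]
  intro y hy
  induction y using QuotientGroup.induction_on with
  | H y =>
    have hyY : y ∈ Y := hy
    rw [Subgroup.mem_bot, QuotientGroup.eq_one_iff]
    obtain ⟨a, m, hm, hn'⟩ := Nat.exists_eq_two_pow_mul_odd (orderOf_pos y).ne'
    have hym : y ^ m = 1 := by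
      have : y ^ m ∈ S := by
        rw [hSmem]
        refine ⟨Y.pow_mem hyY m, a, ?_⟩
        rw [← pow_mul, mul_comm, ← hn', pow_orderOf_eq_one]
      rw [hSbot, Subgroup.mem_bot] at this
      exact this
    obtain ⟨k, hk⟩ := hYQ y hyY
    have hodd : Odd (orderOf y) := Odd.of_dvd_nat hm (orderOf_dvd_of_pow_eq_one hym)
    have hcop : (2 ^ k).Coprime (orderOf y) :=
      Nat.Coprime.pow_left k (Nat.coprime_two_left.2 hodd)
    obtain ⟨j, hj⟩ := exists_pow_eq_self_of_coprime hcop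
    rw [← hj]
    exact Q.pow_mem hk j

end Cfsg.Agent.Lib.Helper29.IA
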