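import Mathlib
import Cfsg.Agent.Lib.Helper65.IA.Defs
import Cfsg.Agent.Lib.Helper65.IA.Lift
import Cfsg.Agent.Lib.Helper65.IA.Gen

/-! IA ladder (helper65), rung SCHUR. -/

set_option autoImplicit false

namespace Cfsg.Agent.Lib.Helper29.IA

open Cfsg.Agent.Lib.Helper65.IA

open scoped commutatorElement

/-- the number of commutators is at most the square of the index of the centre -/
theorem schur_card_commutatorSet_le {G : Type*} [Group G] [Finite G] :
    Nat.card (commutatorSet G) ≤ (Subgroup.center G).index ^ 2 := by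
  let f : (G ⧸ Subgroup.center G) × (G ⧸ Subgroup.center G) → G :=
    fun t => ⁅t.1.out, t.2.out⁆
  have hsub : commutatorSet G ⊆ Set.range f := by
    rintro _ ⟨g₁, g₂, rfl⟩
    refine ⟨((g₁ : G ⧸ Subgroup.center G), (g₂ : G ⧸ Subgroup.center G)), ?_⟩
    obtain ⟨z₁, h1⟩ := QuotientGroup.mk_out_eq_mul (Subgroup.center G) g₁
    obtain ⟨z₂, h2⟩ := QuotientGroup.mk_out_eq_mul (Subgroup.center G) g₂
    simp only [f]
    rw [h1, h2]
    have hz1 : ∀ g : G, g * (z₁ : G) = z₁ * g := Subgroup.mem_center_iff.1 z₁.2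
    have hz2 : ∀ g : G, g * (z₂ : G) = z₂ * g := Subgroup.mem_center_iff.1 z₂.2
    rw [commutatorElement_def, commutatorElement_def]
    have e1 : g₁ * (z₁ : G) * (g₂ * z₂) * (g₁ * z₁)⁻¹ * (g₂ * z₂)⁻¹
        = g₁ * ((z₁ : G) * (g₂ * z₂) * (z₁ : G)⁻¹) * g₁⁻¹ * (z₂ : G)⁻¹ * g₂⁻¹ := by group
    rw [e1, ← hz1 (g₂ * z₂)]
    have e2 : g₁ * (g₂ * (z₂ : G) * z₁ * (z₁ : G)⁻¹) * g₁⁻¹ * (z₂ : G)⁻¹ * g₂⁻¹
        = g₁ * g₂ * ((z₂ : G) * g₁⁻¹) * (z₂ : G)⁻¹ * g₂⁻¹ := by group
    rw [e2, ← hz2 g₁⁻¹]
    group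
  calc Nat.card (commutatorSet G) = (commutatorSet G).ncard := rfl
    _ ≤ (Set.range f).ncard := Set.ncard_le_ncard hsub (Set.finite_range f)
    _ = (f '' Set.univ).ncard := by rw [Set.image_univ]
    _ ≤ (Set.univ : Set ((G ⧸ Subgroup.center G) × (G ⧸ Subgroup.center G))).ncard :=
        Set.ncard_image_le Set.finite_univ
    _ = (Subgroup.center G).index ^ 2 := by
        rw [Set.ncard_univ, Nat.card_prod, Subgroup.index_eq_card, sq]

theorem schur_inv_commutator {G : Type} [Group G] (α : MulAut G) : Inv α (commutator G) :=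
  Subgroup.characteristic_iff_map_eq.1 inferInstance α

/-- in the commutative case everything is an odd-order inverted element -/
theorem schur_XS_eq_univ {A : Type} [Group A] [Finite A] (hc : ∀ x y : A, x * y = y * x)
    {β : MulAut A} (h : Hyp β) : ∀ x : A, x ∈ XS β := by
  let X : Subgroup A :=
    { carrier := XS β
      one_mem' := one_mem_XS β
      mul_mem' := by
        rintro x y ⟨hx, hx'⟩ ⟨hy, hy'⟩
        refine ⟨?_, ?_⟩
        · exact Odd.of_dvd_nat (hx.mul hy) (Commute.orderOf_mul_dvd_mul_orderOf (hc x y))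
        · rw [map_mul, hx', hy', mul_inv_rev, hc]
      inv_mem' := by
        rintro x ⟨hx, hx'⟩
        exact ⟨by rw [orderOf_inv]; exact hx, by rw [map_inv, hx']⟩ }
  have h1 : Subgroup.closure (XS β) ≤ X := (Subgroup.closure_le X).2 (fun x hx => hx)
  rw [gen_XS h] at h1
  intro x
  exact h1 (Subgroup.mem_top x)

theorem schur_index_commutator_le {G : Type} [Group G] [Finite G] {α : MulAut G} (h : Hyp α) :
    (commutator G).index ≤ Nat.card (XS α) := by
  have hN := schur_inv_commutator α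
  have hq := hyp_qa h (commutator G) hN
  have hc : ∀ x y : G ⧸ commutator G, x * y = y * x :=
    fun x y => @mul_comm (Abelianization G) _ x y
  have hall := schur_XS_eq_univ hc hq
  have h1 : XS (qa α (commutator G) hN) = Set.univ := Set.eq_univ_of_forall hall
  have h2 := card_XS_qa_le h.sq (commutator G) hN
  rw [h1, Nat.card_univ] at h2
  rwa [Subgroup.index_eq_card]

theorem schur_bound (b n : ℕ) : ∃ B : ℕ, ∀ (G : Type) [Group G] [Finite G] (α : MulAut G),
    Hyp α → Nat.card (XS α) ≤ n → (Subgroup.center G).index ≤ b → Nat.card G ≤ B := by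
  refine ⟨b ^ (b * b ^ 2 + 1) * n, fun G _ _ α h hn hb => ?_⟩
  have hpos : 0 < (Subgroup.center G).index := Nat.pos_of_ne_zero Subgroup.index_ne_zero_of_finite
  have h1 : Nat.card (commutator G) ≤ b ^ (b * b ^ 2 + 1) := by
    have hdvd := Subgroup.card_commutator_dvd_index_center_pow G
    have hle := Nat.le_of_dvd (pow_pos hpos _) hdvd
    refine hle.trans ?_
    calc (Subgroup.center G).index ^ ((Subgroup.center G).index * Nat.card (commutatorSet G) + 1)
        ≤ b ^ ((Subgroup.center G).index * Nat.card (commutatorSet G) + 1) :=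
          Nat.pow_le_pow_left hb _
      _ ≤ b ^ (b * b ^ 2 + 1) := by
          apply Nat.pow_le_pow_right (by omega)
          have h3 : Nat.card (commutatorSet G) ≤ b ^ 2 :=
            schur_card_commutatorSet_le.trans (Nat.pow_le_pow_left hb 2)
          exact Nat.succ_le_succ (Nat.mul_le_mul hb h3)
  rw [← (commutator G).card_mul_index]
  exact Nat.mul_le_mul h1 ((schur_index_commutator_le h).trans hn)

end Cfsg.Agent.Lib.Helper29.IA
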