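import Cfsg.Agent.Lib.Helper53.KS18Defs
import Cfsg.Agent.Lib.Helper53.JC3Asm
import Cfsg.Agent.Lib.Helper41.KS18S4F
import Cfsg.Agent.Lib.Helper69.KS18MAX

set_option autoImplicit false

/-! Ladder KS18 (S0518), rung FIN. -/

namespace Cfsg.Agent.Lib.Helper29.KS18

open Cfsg Subgroup
open Cfsg.Agent.Lib.Helper53
open Cfsg.Agent.Lib.Helper53.JC (cjj QQ)
open Cfsg.Agent.Lib.Helper53.SA2 (BHyp)
open Cfsg.Agent.Lib.Helper53.KS18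
open Cfsg.Agent.Lib.Helper41.KS18 (s4f)
open Cfsg.Agent.Lib.Helper69.KS18 (max_of max_le_normalizer_inf)

variable {G : Type*} [Group G] [Finite G]

theorem fin_max {H P T : Subgroup G} (hH : H.Normal) (m : IsMaximalTwoLocal P)
    (s : IsSylowTwoIn T P) (i : Nonempty (↥(H ⊓ P) ≃* Equiv.Perm (Fin 4))) :
    IsMaximalTwoLocal ((H ⊓ P).subgroupOf H) := by
  obtain ⟨hN, hmax⟩ := max_of hH m s i
  obtain ⟨-, hW1, -, -⟩ := s4f i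
  have hWH : pCoreOf 2 (H ⊓ P) ≤ H := (pCoreOf_le 2 _).trans inf_le_left
  refine ⟨⟨(pCoreOf 2 (H ⊓ P)).subgroupOf H, (pCoreOf_isPGroup 2 _).comap_subtype, ?_, ?_⟩, ?_⟩
  · intro h
    rw [subgroupOf_eq_bot, disjoint_iff, inf_eq_left.2 hWH] at h
    exact hW1 h
  · rw [← subgroupOf_normalizer_eq hWH, hN, inf_subgroupOf_left]
  · rintro N ⟨R', hR'2, hR'1, rfl⟩ hle
    have hRH : R'.map H.subtype ≤ H := map_subtype_le R'
    have hR' : (R'.map H.subtype).subgroupOf H = R' :=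
      comap_map_eq_self_of_injective (subtype_injective H) R'
    have hR2 : IsPGroup 2 ↥(R'.map H.subtype) := hR'2.map _
    have hR1 : R'.map H.subtype ≠ ⊥ := by
      intro h
      exact hR'1 ((map_eq_bot_iff_of_injective R' (subtype_injective H)).1 h)
    have hNeq : normalizer (R' : Set ↥H)
        = (normalizer ((R'.map H.subtype : Subgroup G) : Set G)).subgroupOf H := by
      rw [subgroupOf_normalizer_eq hRH, hR']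
    rw [hNeq] at hle ⊢
    have hle' : H ⊓ P ≤ normalizer ((R'.map H.subtype : Subgroup G) : Set G) := by
      intro x hx
      have := hle (show (⟨x, hx.1⟩ : ↥H) ∈ (H ⊓ P).subgroupOf H from hx)
      exact this
    have := hmax _ hRH hR2 hR1 hle'
    rw [← this, inf_subgroupOf_left]

theorem fin_card_syl {H P T : Subgroup G} (hH : H.Normal) (s : IsSylowTwoIn T P)
    (i : Nonempty (↥(H ⊓ P) ≃* Equiv.Perm (Fin 4))) :
    Nat.card ↥(T ⊓ (H ⊓ P)) = 8 ∧ (T ⊓ (H ⊓ P)).relIndex (H ⊓ P) = 3 := by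
  have : Fact (Nat.Prime 2) := ⟨Nat.prime_two⟩
  obtain ⟨h24, -, -, -⟩ := s4f i
  have hsyl : IsSyl 2 T P := JC.isSylowTwoIn_iff.1 s
  have hT0 : IsSyl 2 (T ⊓ (H ⊓ P)) (H ⊓ P) :=
    hsyl.inf_normal inf_le_right (max_le_normalizer_inf hH)
  obtain ⟨h1, h2, h3⟩ := JC.isSylowTwoIn_iff.2 hT0
  have h4 : (T ⊓ (H ⊓ P)).relIndex (H ⊓ P) * Nat.card ↥(T ⊓ (H ⊓ P)) = Nat.card ↥(H ⊓ P) := by
    have h0 := Subgroup.relIndex_mul_relIndex ⊥ (T ⊓ (H ⊓ P)) (H ⊓ P) bot_le h1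
    rw [relIndex_bot_left, relIndex_bot_left] at h0
    rw [mul_comm]; exact h0
  rw [h24] at h4
  obtain ⟨k, hk⟩ := (IsPGroup.iff_card).1 h2
  rw [hk] at h4 ⊢
  obtain ⟨r, hr⟩ := h3
  rw [hr] at h4 ⊢
  have hk4 : k ≤ 4 := by
    by_contra hcon
    have h5 : 2 ^ 5 ≤ 2 ^ k := Nat.pow_le_pow_right (by norm_num) (by omega)
    have h6 : (2 * r + 1) * 2 ^ 5 ≤ (2 * r + 1) * 2 ^ k := Nat.mul_le_mul_left _ h5
    omega
  interval_cases k <;> omega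

theorem fin {H P₁ P₂ T : Subgroup G} (hH : H.Normal) (hne : P₁ ≠ P₂) (m₁ : IsMaximalTwoLocal P₁)
    (m₂ : IsMaximalTwoLocal P₂) (s₁ : IsSylowTwoIn T P₁) (s₂ : IsSylowTwoIn T P₂)
    (i₁ : Nonempty (↥(H ⊓ P₁) ≃* Equiv.Perm (Fin 4)))
    (i₂ : Nonempty (↥(H ⊓ P₂) ≃* Equiv.Perm (Fin 4))) :
    ∃ M₁ M₂ : Subgroup H, M₁ ≠ M₂ ∧ IsMaximalTwoLocal M₁ ∧ IsMaximalTwoLocal M₂ ∧
      Nonempty (M₁ ≃* Equiv.Perm (Fin 4)) ∧ Nonempty (M₂ ≃* Equiv.Perm (Fin 4)) ∧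
      Nat.card ↥(M₁ ⊓ M₂) = 8 := by
  have hMne : H ⊓ P₁ ≠ H ⊓ P₂ := by
    intro h
    apply hne
    rw [← (max_of hH m₁ s₁ i₁).1, ← (max_of hH m₂ s₂ i₂).1, h]
  obtain ⟨e₁⟩ := i₁
  obtain ⟨e₂⟩ := i₂
  refine ⟨(H ⊓ P₁).subgroupOf H, (H ⊓ P₂).subgroupOf H, ?_, fin_max hH m₁ s₁ ⟨e₁⟩,
    fin_max hH m₂ s₂ ⟨e₂⟩, ⟨(subgroupOfEquivOfLe inf_le_left).trans e₁⟩,
    ⟨(subgroupOfEquivOfLe inf_le_left).trans e₂⟩, ?_⟩
  · intro h
    rw [subgroupOf_inj, inf_eq_left.2 inf_le_left, inf_eq_left.2 inf_le_left] at h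
    exact hMne h
  · have hinf : (H ⊓ P₁).subgroupOf H ⊓ (H ⊓ P₂).subgroupOf H
        = ((H ⊓ P₁) ⊓ (H ⊓ P₂)).subgroupOf H := rfl
    rw [hinf, Nat.card_congr (subgroupOfEquivOfLe (inf_le_left.trans inf_le_left)).toEquiv]
    obtain ⟨h8, h3⟩ := fin_card_syl hH s₁ ⟨e₁⟩
    have hle : T ⊓ (H ⊓ P₁) ≤ (H ⊓ P₁) ⊓ (H ⊓ P₂) := by
      intro x hx
      exact ⟨hx.2, hx.2.1, s₂.1 hx.1⟩
    rcases JC.eq_or_eq_of_relIndex_prime Nat.prime_three hle inf_le_left h3 with h | h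
    · rw [h, h8]
    · exfalso
      have h12 : H ⊓ P₁ ≤ H ⊓ P₂ := inf_eq_left.1 h
      apply hMne
      refine eq_of_le_of_card_ge h12 ?_
      rw [(s4f ⟨e₁⟩).1, (s4f ⟨e₂⟩).1]

end Cfsg.Agent.Lib.Helper29.KS18
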