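import Mathlib
import Cfsg.Agent.Lib.Helper80.GADef

set_option autoImplicit false
set_option linter.unusedSectionVars false

namespace Cfsg.Agent.Lib.Helper29

open scoped BigOperators
open Cfsg.Agent.Lib.Helper80

section graded
variable {R : Type*} [Ring R] {Γ : Type*} [Group Γ] [Fintype Γ] [DecidableEq Γ]

/-- graded pigeonhole principle -/
theorem graded_aux (J : Ideal R) [J.IsTwoSided] (I : Γ → Set R)
    (hmul : ∀ γ δ x y, x ∈ I γ → y ∈ I δ → x * y ∈ I (γ * δ))
    (h1 : ∀ x ∈ I 1, x ∈ J) (f : Γ → R) (hf : ∀ γ, f γ ∈ I γ) :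
    ∀ (n : ℕ) (X : Finset Γ) (δ : Γ) (u : R), (Finset.univ \ X).card ≤ n →
      (∀ ξ ∈ X, ∀ γ, ∀ y ∈ I γ, δ * γ = ξ → u * y ∈ J) →
      u * (∑ γ, f γ) ^ (n + 1) ∈ J := by
  intro n
  induction n with
  | zero =>
    intro X δ u hX hgood
    rw [zero_add, pow_one, Finset.mul_sum]
    refine J.sum_mem (fun γ _ => hgood (δ * γ) ?_ γ (f γ) (hf γ) rfl)
    have h0 : Finset.univ \ X = ∅ := Finset.card_eq_zero.1 (Nat.le_zero.1 hX)
    by_contra hcon
    have : δ * γ ∈ Finset.univ \ X := Finset.mem_sdiff.2 ⟨Finset.mem_univ _, hcon⟩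
    rw [h0] at this
    exact absurd this (Finset.notMem_empty _)
  | succ n ih =>
    intro X δ u hX hgood
    rw [pow_succ', Finset.sum_mul, Finset.mul_sum]
    refine J.sum_mem (fun γ _ => ?_)
    rw [← mul_assoc]
    by_cases hγ : δ * γ ∈ X
    · exact J.mul_mem_right _ (hgood _ hγ γ _ (hf γ) rfl)
    · refine ih (insert (δ * γ) X) (δ * γ) (u * f γ) ?_ ?_
      · have h2 : Finset.univ \ insert (δ * γ) X = (Finset.univ \ X).erase (δ * γ) := by
          ext t
          simp only [Finset.mem_sdiff, Finset.mem_univ, true_and, Finset.mem_insert,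
            Finset.mem_erase, not_or]
        rw [h2, Finset.card_erase_of_mem (Finset.mem_sdiff.2 ⟨Finset.mem_univ _, hγ⟩)]
        omega
      · intro ξ hξ γ' y hy hγ'
        rcases Finset.mem_insert.1 hξ with h | h
        · have : γ' = 1 := by
            rw [h] at hγ'
            exact mul_eq_left.1 hγ'
          subst this
          exact J.mul_mem_left _ (h1 y hy)
        · rw [mul_assoc]
          exact hgood ξ h (γ * γ') _ (hmul _ _ _ _ (hf γ) hy) (by rw [← mul_assoc]; exact hγ')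

theorem graded_pow_mem (J : Ideal R) [J.IsTwoSided] (I : Γ → Set R)
    (hmul : ∀ γ δ x y, x ∈ I γ → y ∈ I δ → x * y ∈ I (γ * δ))
    (h1 : ∀ x ∈ I 1, x ∈ J) (f : Γ → R) (hf : ∀ γ, f γ ∈ I γ) :
    (∑ γ, f γ) ^ (Fintype.card Γ + 1) ∈ J := by
  have := graded_aux J I hmul h1 f hf (Fintype.card Γ) {1} 1 1
    (by
      calc (Finset.univ \ ({1} : Finset Γ)).card ≤ (Finset.univ : Finset Γ).card :=
            Finset.card_le_card Finset.sdiff_subset
        _ = Fintype.card Γ := Finset.card_univ)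
    (by
      intro ξ hξ γ y hy hγ
      rw [Finset.mem_singleton] at hξ
      rw [one_mul] at hγ ⊢
      rw [hξ] at hγ
      subst hγ
      exact h1 y hy)
  rwa [one_mul] at this

/-- an idempotent in the Jacobson radical vanishes -/
theorem idem_eq_zero_of_mem_jacobson {f : R} (hff : f * f = f)
    (hf : f ∈ Ideal.jacobson (⊥ : Ideal R)) : f = 0 := by
  obtain ⟨z, hz⟩ := Ideal.mem_jacobson_iff.1 hf (-1)
  rw [Ideal.mem_bot] at hz
  have h1 : z - z * f = 1 := by
    have : z * -1 * f + z - 1 = (z - z * f) - 1 := by noncomm_ring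
    rw [this] at hz
    exact sub_eq_zero.1 hz
  calc f = 1 * f := (one_mul f).symm
    _ = (z - z * f) * f := by rw [h1]
    _ = 0 := by rw [sub_mul, mul_assoc, hff, sub_self]

/-- a central nilpotent element lies in the Jacobson radical -/
theorem mem_jacobson_of_central_nilpotent {x : R} (hx : IsNilpotent x)
    (hc : ∀ y, y * x = x * y) : x ∈ Ideal.jacobson (⊥ : Ideal R) := by
  rw [Ideal.mem_jacobson_iff]
  intro y
  have hn : IsNilpotent (y * x) := by
    obtain ⟨n, hn⟩ := hx
    refine ⟨n, ?_⟩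
    have : Commute y x := hc y
    rw [this.mul_pow, hn, mul_zero]
  obtain ⟨z, hz⟩ := hn.isUnit_add_one.exists_left_inv
  refine ⟨z, ?_⟩
  rw [Ideal.mem_bot]
  have : z * y * x + z - 1 = z * (y * x + 1) - 1 := by noncomm_ring
  rw [this, hz, sub_self]

end graded

namespace Kn

open GA

variable {k : Type*} {G : Type*} [Field k] [Group G] [Fintype G]

/-- supported on the coset `γ` of `N` -/
def SuppC (N : Subgroup G) (γ : G ⧸ N) (a : GA k G) : Prop :=
  ∀ g : G, (QuotientGroup.mk g : G ⧸ N) ≠ γ → a g = 0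

/-- the component on the coset `γ` -/
noncomputable def comp (N : Subgroup G) (γ : G ⧸ N) (a : GA k G) : GA k G :=
  fun g => by classical exact if (QuotientGroup.mk g : G ⧸ N) = γ then a g else 0

theorem comp_apply_of {N : Subgroup G} {γ : G ⧸ N} (a : GA k G) {g : G}
    (h : (QuotientGroup.mk g : G ⧸ N) = γ) : comp N γ a g = a g := if_pos h

theorem comp_apply_not {N : Subgroup G} {γ : G ⧸ N} (a : GA k G) {g : G}
    (h : (QuotientGroup.mk g : G ⧸ N) ≠ γ) : comp N γ a g = 0 := if_neg h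

theorem comp_suppC (N : Subgroup G) (γ : G ⧸ N) (a : GA k G) : SuppC N γ (comp N γ a) :=
  fun _ h => comp_apply_not a h

theorem sum_comp (N : Subgroup G) [Fintype (G ⧸ N)] (a : GA k G) :
    ∑ γ, comp N γ a = a := by
  classical
  ext g
  rw [GA.sum_apply, Finset.sum_eq_single (QuotientGroup.mk g : G ⧸ N)]
  · exact comp_apply_of a rfl
  · intro γ _ hγ
    exact comp_apply_not a (Ne.symm hγ)
  · intro h; exact absurd (Finset.mem_univ _) h

theorem suppC_one_iff {N : Subgroup G} [N.Normal] {a : GA k G} :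
    SuppC N (1 : G ⧸ N) a ↔ SuppOn N a := by
  constructor
  · intro h g hg
    exact h g (fun h1 => hg ((QuotientGroup.eq_one_iff g).1 h1))
  · intro h g hg
    exact h g (fun h1 => hg ((QuotientGroup.eq_one_iff g).2 h1))

theorem SuppC.mul {N : Subgroup G} [N.Normal] {γ δ : G ⧸ N} {a b : GA k G}
    (ha : SuppC N γ a) (hb : SuppC N δ b) : SuppC N (γ * δ) (a * b) := by
  intro g hg
  rw [mul_apply]
  refine Finset.sum_eq_zero (fun x _ => ?_)
  by_cases hx : (QuotientGroup.mk x : G ⧸ N) = γ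
  · rw [hb, mul_zero]
    intro h
    apply hg
    rw [← hx, ← h, ← QuotientGroup.mk_mul, mul_inv_cancel_left]
  · rw [ha x hx, zero_mul]

theorem comp_fixBy {N : Subgroup G} [N.Normal] (γ : G ⧸ N) {a : GA k G} (ha : FixBy N a) :
    FixBy N (comp N γ a) := by
  rw [fixBy_iff]
  intro x hx g
  have h1 : (QuotientGroup.mk (x * g * x⁻¹) : G ⧸ N) = QuotientGroup.mk g := by
    rw [QuotientGroup.mk_mul, QuotientGroup.mk_mul, QuotientGroup.mk_inv,
      (QuotientGroup.eq_one_iff x).2 hx]
    simp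
  by_cases hg : (QuotientGroup.mk g : G ⧸ N) = γ
  · rw [comp_apply_of a hg, comp_apply_of a (h1.trans hg), ha.apply hx]
  · rw [comp_apply_not a hg, comp_apply_not a (fun h => hg (h1.symm.trans h))]

theorem comp_mul_of_suppOn {N : Subgroup G} [N.Normal] (γ : G ⧸ N) (a : GA k G) {b : GA k G}
    (hb : SuppOn N b) : comp N γ (a * b) = comp N γ a * b := by
  ext g
  by_cases hg : (QuotientGroup.mk g : G ⧸ N) = γ
  · rw [comp_apply_of _ hg, mul_apply, mul_apply]
    refine Finset.sum_congr rfl (fun x _ => ?_)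
    by_cases hx : x⁻¹ * g ∈ N
    · have : (QuotientGroup.mk x : G ⧸ N) = γ := by
        rw [← hg]
        exact QuotientGroup.eq.2 hx
      rw [comp_apply_of _ this]
    · rw [hb _ hx, mul_zero, mul_zero]
  · rw [comp_apply_not _ hg, mul_apply]
    symm
    refine Finset.sum_eq_zero (fun x _ => ?_)
    by_cases hx : x⁻¹ * g ∈ N
    · have : (QuotientGroup.mk x : G ⧸ N) ≠ γ := by
        intro h
        apply hg
        rw [← h]
        exact (QuotientGroup.eq.2 hx).symm
      rw [comp_apply_not _ this, zero_mul]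
    · rw [hb _ hx, mul_zero]

theorem br_comp {N : Subgroup G} (γ : G ⧸ N) (Q : Subgroup G) (a : GA k G) :
    br Q (comp N γ a) = comp N γ (br Q a) := by
  ext g
  by_cases hg : (QuotientGroup.mk g : G ⧸ N) = γ
  · rw [comp_apply_of _ hg]
    by_cases hc : g ∈ Cn Q
    · rw [br_apply_mem _ hc, br_apply_mem _ hc, comp_apply_of _ hg]
    · rw [br_apply_not_mem _ hc, br_apply_not_mem _ hc]
  · rw [comp_apply_not _ hg]
    by_cases hc : g ∈ Cn Q
    · rw [br_apply_mem _ hc, comp_apply_not _ hg]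
    · rw [br_apply_not_mem _ hc]

theorem comp_zero (N : Subgroup G) (γ : G ⧸ N) : comp N γ (0 : GA k G) = 0 := by
  ext g
  by_cases hg : (QuotientGroup.mk g : G ⧸ N) = γ
  · rw [comp_apply_of _ hg]
  · rw [comp_apply_not _ hg]; rfl

/-- the ring of `N`-fixed points of the group algebra -/
def fixRing (k : Type*) [Field k] (N : Subgroup G) : Subring (GA k G) where
  carrier := {a | FixBy N a}
  mul_mem' := fun ha hb => FixBy.mul ha hb
  one_mem' := FixBy.one
  add_mem' := fun ha hb => FixBy.add ha hb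
  zero_mem' := FixBy.zero
  neg_mem' := fun {a} ha => by
    have : FixBy N (0 - a) := FixBy.sub FixBy.zero ha
    rwa [zero_sub] at this

theorem mem_fixRing {N : Subgroup G} {a : GA k G} : a ∈ fixRing k N ↔ FixBy N a := Iff.rfl

variable {p : ℕ} [Fact p.Prime] [CharP k p]

/-- **Key step of Knörr's theorem**: if the central idempotent `e` of `kG` does not kill the block
idempotent `b` of the normal subgroup `N`, and `Br_Q(b) ≠ 0` for a `p`-subgroup `Q` of `N`, then
`Br_Q(e) ≠ 0`. -/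
theorem br_ne_zero_of_mul_ne_zero {N : Subgroup G} [N.Normal] {b e : GA k G} {Q : Subgroup G}
    (hb : IsBlk N b) (he : FixBy ⊤ e) (hee : e * e = e) (hQN : Q ≤ N) (hQ : IsPGroup p Q)
    (hbr : br Q b ≠ 0) (heb : e * b ≠ 0) : br Q e ≠ 0 := by
  classical
  intro hcon
  apply heb
  have _ : Fintype (G ⧸ N) := Fintype.ofFinite _
  have heN : FixBy N e := he.mono le_top
  have hcomm : e * b = b * e := (commute_of_suppOn_fixBy hb.inZ.1 heN).symm
  have hfN : FixBy N (e * b) := heN.mul hb.inZ.2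
  have hff : (e * b) * (e * b) = e * b := by
    calc (e * b) * (e * b) = e * (b * e) * b := by simp only [mul_assoc]
      _ = e * (e * b) * b := by rw [hcomm]
      _ = (e * e) * (b * b) := by simp only [mul_assoc]
      _ = e * b := by rw [hee, hb.idem]
  have hbrf : br Q (e * b) = 0 := by
    rw [br_mul hQ (heN.mono hQN) (hb.inZ.2.mono hQN), hcon, zero_mul]
  let I : G ⧸ N → Set (fixRing k N) :=
    fun γ => {x | SuppC N γ x.1 ∧ x.1 * b = x.1 ∧ br Q x.1 = 0}
  let f : G ⧸ N → fixRing k N := fun γ => ⟨comp N γ (e * b), comp_fixBy γ hfN⟩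
  have hmul : ∀ γ δ x y, x ∈ I γ → y ∈ I δ → x * y ∈ I (γ * δ) := by
    intro γ δ x y hx hy
    refine ⟨hx.1.mul hy.1, ?_, ?_⟩
    · show x.1 * y.1 * b = x.1 * y.1
      rw [mul_assoc, hy.2.1]
    · show br Q (x.1 * y.1) = 0
      rw [br_mul hQ (FixBy.mono hQN x.2) (FixBy.mono hQN y.2), hx.2.2, zero_mul]
  have h1 : ∀ x ∈ I 1, x ∈ Ideal.jacobson (⊥ : Ideal (fixRing k N)) := by
    intro x hx
    have hxZ : InZ N x.1 := ⟨suppC_one_iff.1 hx.1, x.2⟩
    have hnil : IsNilpotent x.1 := by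
      rcases hb.nilpotent_or_unit hxZ with h | ⟨w, hw, hw2⟩
      · rwa [hx.2.1] at h
      · exfalso
        apply hbr
        rw [← hw2, mul_assoc, br_mul hQ (FixBy.mono hQN x.2)
          ((hw.2.mul hb.inZ.2).mono hQN), hx.2.2, zero_mul]
    apply mem_jacobson_of_central_nilpotent
    · obtain ⟨n, hn⟩ := hnil
      exact ⟨n, Subtype.ext (by simpa using hn)⟩
    · intro y
      apply Subtype.ext
      show y.1 * x.1 = x.1 * y.1
      exact (commute_of_suppOn_fixBy hxZ.1 y.2).symm
  have hf : ∀ γ, f γ ∈ I γ := by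
    intro γ
    refine ⟨comp_suppC _ _ _, ?_, ?_⟩
    · show comp N γ (e * b) * b = comp N γ (e * b)
      rw [← comp_mul_of_suppOn γ _ hb.inZ.1, mul_assoc, hb.idem]
    · show br Q (comp N γ (e * b)) = 0
      rw [br_comp, hbrf, comp_zero]
  have hsum : ∑ γ, f γ = ⟨e * b, hfN⟩ := by
    apply Subtype.ext
    rw [AddSubmonoidClass.coe_finsetSum]
    exact sum_comp N (e * b)
  have hpow := graded_pow_mem _ I hmul h1 f hf
  rw [hsum] at hpow
  have hidem : (⟨e * b, hfN⟩ : fixRing k N) * ⟨e * b, hfN⟩ = ⟨e * b, hfN⟩ := Subtype.ext hff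
  have hpw : ∀ m : ℕ, (⟨e * b, hfN⟩ : fixRing k N) ^ (m + 1) = ⟨e * b, hfN⟩ := by
    intro m
    induction m with
    | zero => simp
    | succ m ih => rw [pow_succ, ih, hidem]
  rw [hpw] at hpow
  have := idem_eq_zero_of_mem_jacobson hidem hpow
  exact congrArg Subtype.val this

theorem cS_normal (N : Subgroup G) [hN : N.Normal] (g : G) : cS g N = N := by
  ext x
  rw [mem_cS]
  constructor
  · intro h
    have := hN.conj_mem _ h g
    simpa [mul_assoc] using this
  · intro h
    have := hN.conj_mem _ h g⁻¹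
    simpa [mul_assoc] using this

theorem isBlk_cj_normal {N : Subgroup G} [N.Normal] {b : GA k G} (hb : IsBlk N b) (g : G) :
    IsBlk N (cj g b) := by
  have := hb.cj g
  rwa [cS_normal] at this

theorem isDef_cj_normal {N : Subgroup G} [N.Normal] {b : GA k G} {Q : Subgroup G}
    (hb : IsDef p N b Q) (g : G) : IsDef p N (cj g b) (cS g Q) := by
  have := hb.cj g
  rwa [cS_normal] at this

/-- the sum of the distinct `G`-conjugates of a block idempotent of a normal subgroup -/
noncomputable def orb (N : Subgroup G) (b : GA k G) : GA k G := by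
  classical exact ∑ b' ∈ (blks k N).filter (fun b' => ∃ g : G, b' = cj g b), b'

theorem orb_def [DecidableEq (GA k G)] (N : Subgroup G) (b : GA k G)
    [DecidablePred (fun b' : GA k G => ∃ g : G, b' = cj g b)] :
    orb N b = ∑ b' ∈ (blks k N).filter (fun b' => ∃ g : G, b' = cj g b), b' := by
  unfold orb
  congr

theorem orb_suppOn (N : Subgroup G) (b : GA k G) : SuppOn N (orb N b) := by
  classical
  rw [orb_def]
  refine SuppOn.sum _ _ (fun b' hb' => ?_)
  exact (mem_blks.1 (Finset.mem_filter.1 hb').1).inZ.1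

theorem orb_fixBy (N : Subgroup G) [N.Normal] (b : GA k G) : FixBy ⊤ (orb N b) := by
  classical
  intro x _
  rw [orb_def, cj_sum]
  refine Finset.sum_nbij' (fun b' => cj x b') (fun b' => cj x⁻¹ b') ?_ ?_ ?_ ?_ ?_
  · intro b' hb'
    obtain ⟨h1, g, rfl⟩ := Finset.mem_filter.1 hb'
    exact Finset.mem_filter.2 ⟨mem_blks.2 (isBlk_cj_normal (mem_blks.1 h1) x),
      x * g, by rw [cj_cj]⟩
  · intro b' hb'
    obtain ⟨h1, g, rfl⟩ := Finset.mem_filter.1 hb'
    exact Finset.mem_filter.2 ⟨mem_blks.2 (isBlk_cj_normal (mem_blks.1 h1) x⁻¹),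
      x⁻¹ * g, by rw [cj_cj]⟩
  · intro b' _; exact cj_inv_cj x b'
  · intro b' _; exact cj_cj_inv x b'
  · intro b' _; rfl

theorem orb_mul_self {N : Subgroup G} [N.Normal] {b : GA k G} (hb : IsBlk N b) :
    orb N b * b = b := by
  classical
  rw [orb_def, Finset.sum_mul, Finset.sum_eq_single b]
  · exact hb.idem
  · intro b' hb' hne
    rcases (mem_blks.1 (Finset.mem_filter.1 hb').1).eq_or_orth hb with h | h
    · exact absurd h hne
    · exact h
  · intro h
    exact absurd (Finset.mem_filter.2 ⟨mem_blks.2 hb, 1, by rw [one_cj]⟩) h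

theorem orb_idem {N : Subgroup G} [N.Normal] (b : GA k G) :
    orb N b * orb N b = orb N b := by
  classical
  rw [orb_def]
  rw [Finset.sum_mul]
  refine Finset.sum_congr rfl (fun b' hb' => ?_)
  have hb1 := mem_blks.1 (Finset.mem_filter.1 hb').1
  rw [Finset.mul_sum, Finset.sum_eq_single b']
  · exact hb1.idem
  · intro b'' hb'' hne
    rcases hb1.eq_or_orth (mem_blks.1 (Finset.mem_filter.1 hb'').1) with h | h
    · exact absurd h.symm hne
    · exact h
  · intro h
    exact absurd hb' h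

theorem orb_inZ (N : Subgroup G) [N.Normal] (b : GA k G) : InZ ⊤ (orb N b) :=
  ⟨fun g hg => absurd (Subgroup.mem_top g) hg, orb_fixBy N b⟩

/-- if `e` is central and kills `b` then it kills the orbit sum of `b` -/
theorem mul_orb_eq_zero {N : Subgroup G} {b e : GA k G} (he : FixBy ⊤ e) (h : e * b = 0) :
    e * orb N b = 0 := by
  classical
  rw [orb_def, Finset.mul_sum]
  refine Finset.sum_eq_zero (fun b' hb' => ?_)
  obtain ⟨_, g, rfl⟩ := Finset.mem_filter.1 hb'
  have := congrArg (cj g) h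
  rwa [cj_mul, he g (Subgroup.mem_top g), cj_zero] at this

/-- a block idempotent of `kG` not killing `b` is fixed by the orbit sum of `b` -/
theorem orb_mul_eq {N : Subgroup G} [N.Normal] {b e : GA k G} (hb : IsBlk N b) (he : IsBlk ⊤ e)
    (heb : e * b ≠ 0) : orb N b * e = e := by
  rcases he.prim _ (orb_inZ N b) (orb_idem b) with h | h
  · exfalso
    apply heb
    rw [← orb_mul_self hb, ← mul_assoc, he.inZ.comm (orb_inZ N b), h, zero_mul]
  · exact h

/-- two blocks of `N` covered by the same block of `G` are conjugate -/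
theorem exists_cj_of_mul_ne_zero {N : Subgroup G} [N.Normal] {b b' e : GA k G} (hb : IsBlk N b)
    (hb' : IsBlk N b') (he : IsBlk ⊤ e) (heb : e * b ≠ 0) (heb' : e * b' ≠ 0) :
    ∃ g : G, b' = cj g b := by
  classical
  by_contra hcon
  apply heb'
  have h0 : orb N b * b' = 0 := by
    rw [orb_def, Finset.sum_mul]
    refine Finset.sum_eq_zero (fun b'' hb'' => ?_)
    obtain ⟨h1, g, hg⟩ := Finset.mem_filter.1 hb''
    rcases (mem_blks.1 h1).eq_or_orth hb' with h | h
    · exact absurd ⟨g, h ▸ hg⟩ hcon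
    · exact h
  rw [← orb_mul_eq hb he heb, (orb_inZ N b).comm he.inZ, mul_assoc, h0, mul_zero]

/-- **Knörr's theorem**, in the modular group algebra. -/
theorem knorr {N : Subgroup G} [N.Normal] {b e : GA k G} {Q : Subgroup G}
    (hb : IsBlk N b) (he : IsBlk ⊤ e) (hQ : IsDef p N b Q) (heb : e * b ≠ 0) :
    ∃ P, IsDef p ⊤ e P ∧ P ⊓ N = Q := by
  classical
  have h1 : br Q e ≠ 0 :=
    br_ne_zero_of_mul_ne_zero hb he.inZ.2 he.idem hQ.le hQ.pgroup hQ.br_ne heb
  obtain ⟨D, hD⟩ := he.exists_isDef (p := p)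
  obtain ⟨x, hx, hQD⟩ := hD.zd.le_conj_of_br_ne le_top hQ.pgroup h1
  have hP : IsDef p ⊤ e (cS x D) := hD.conj he.inZ.2 hx
  refine ⟨cS x D, hP, ?_⟩
  have hle : Q ≤ cS x D ⊓ N := le_inf hQD hQ.le
  obtain ⟨R, hR⟩ : ∃ R, R = cS x D ⊓ N := ⟨_, rfl⟩
  rw [← hR] at hle ⊢
  have hRP : R ≤ cS x D := hR ▸ inf_le_left
  have hRN : R ≤ N := hR ▸ inf_le_right
  have hRp : IsPGroup p R := hP.pgroup.to_le hRP
  have h2 : br R e ≠ 0 := by
    intro h
    apply hP.br_ne
    rw [← br_br hRP, h, br_zero]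
  have h3 : br R (orb N b) ≠ 0 := by
    intro h
    apply h2
    rw [← orb_mul_eq hb he heb, br_mul hRp ((orb_fixBy N b).mono le_top)
      (he.inZ.2.mono le_top), h, zero_mul]
  have h4 : ∃ g : G, br R (cj g b) ≠ 0 := by
    by_contra hcon
    push Not at hcon
    apply h3
    rw [orb_def, br_sum]
    refine Finset.sum_eq_zero (fun b' hb' => ?_)
    obtain ⟨_, g, rfl⟩ := Finset.mem_filter.1 hb'
    exact hcon g
  obtain ⟨g, hg⟩ := h4
  obtain ⟨n, _, hn⟩ := (isDef_cj_normal hQ g).zd.le_conj_of_br_ne hRN hRp hg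
  have hcard : Nat.card R ≤ Nat.card Q := by
    calc Nat.card R ≤ Nat.card (cS n (cS g Q)) := Subgroup.card_le_of_le hn
      _ = Nat.card Q := by rw [card_cS, card_cS]
  exact (Subgroup.eq_of_le_of_card_ge hle hcard).symm

end Kn

end Cfsg.Agent.Lib.Helper29
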