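import Mathlib
import Cfsg.Agent.Lib.Helper29.Knorr1
import Cfsg.Agent.Lib.Helper80.GAFusT
import Cfsg.Agent.Lib.Helper21.Cover

set_option autoImplicit false
set_option linter.unusedSectionVars false

namespace Cfsg.Agent.Lib.Helper29

open scoped BigOperators
open Cfsg Cfsg.Agent.Lib.Helper80 Cfsg.Agent.Lib.Helper81 Cfsg.Agent.Lib.Helper20
open Cfsg.Agent.Lib.Helper21

namespace Kn

open GA

variable {p : ℕ} [Fact p.Prime] {M : Ideal AlgInt} (hM : IsPModular p M)
  {G : Type*} [Group G] [Fintype G]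

/-- If `χ ∈ B` lies over `θ ∈ b` and `c` is a central idempotent of `kG` supported on `N` with
`c * e_b = e_b`, then `c * e_B = e_B`. -/
theorem mul_blkR_eq_of_constituent {N : Subgroup G} (hN : N.Normal) [Fintype N]
    {B : Set (IrrCharacter G)} (hB : IsPBlock M B) {b : Set (IrrCharacter N)} (hb : IsPBlock M b)
    {χ : IrrCharacter G} (hχ : χ ∈ B) {θ : IrrCharacter N} (hθ : θ ∈ b)
    (hcon : classInner (fun n : N => (χ : G → ℂ) n) (θ : N → ℂ) ≠ 0)
    {c : GA (Kr hM) G} (hc : InZ ⊤ c) (hcN : SuppOn N c) (hcc : c * c = c)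
    (hcb : c * bl hM N b = bl hM N b) : c * blkR hM B = blkR hM B := by
  classical
  let a : G → ℂ := fun g => if g ∈ N then liftC hM (c g) else 0
  have ha : IsClassFunction G a := by
    intro g h
    have h1 : h * g * h⁻¹ ∈ N ↔ g ∈ N := hN.mem_comm_iff.trans (by simp)
    show (if h * g * h⁻¹ ∈ N then liftC hM (c (h * g * h⁻¹)) else 0) =
      if g ∈ N then liftC hM (c g) else 0
    rw [hc.2.apply (Subgroup.mem_top h)]
    simp only [h1]
  have haR : RV M a := by
    intro g
    show MemLocalRing M (if g ∈ N then liftC hM (c g) else 0)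
    split_ifs
    · exact liftC_mem hM _
    · exact memLocalRing_zero hM
  have hred : red hM a = c := by
    ext g
    rw [red_apply]
    show resC hM (if g ∈ N then liftC hM (c g) else 0) = c g
    split_ifs with hg
    · exact resC_liftC hM _
    · rw [resC_zero, hcN g hg]
  have ha0 : ∀ g, g ∉ N → a g = 0 := fun g hg => if_neg hg
  have hom := omega_eq_omega_res_of_constituent hN χ θ hcon ha ha0
  -- inside `N`
  have haN : IsClassFunction N (fun n : N => a n) := by
    intro g h
    exact ha g h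
  have haNR : RV M (fun n : N => a n) := fun n => haR n
  have hredN : red hM (fun n : N => a n) = rst N c := by
    ext n
    rw [red_apply, rst_apply, ← hred, red_apply]
  have hidN : red hM (fun n : N => a n) * red hM (fun n : N => a n) =
      red hM (fun n : N => a n) := by
    rw [hredN]
    apply emb_injective N
    rw [emb_mul, emb_rst N hcN, hcc]
  have hN1 : red hM (fun n : N => a n) * blkR hM b = blkR hM b := by
    rw [hredN]
    apply emb_injective N
    rw [emb_mul, emb_rst N hcN, ← bl_eq_emb, hcb]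
  have h1 := (omega_sub_one_mem_iff hM hb haN haNR hidN hθ).2 hN1
  rw [← hom] at h1
  have h2 := (omega_sub_one_mem_iff hM hB ha haR (by rw [hred, hcc]) hχ).1 h1
  rwa [hred] at h2

/-- covering implies that the product of the block idempotents does not vanish -/
theorem mul_ne_zero_of_covers {N : Subgroup G} (hN : N.Normal) [Fintype N]
    {B : Set (IrrCharacter G)} (hB : IsPBlock M B) {b : Set (IrrCharacter N)} (hb : IsPBlock M b)
    (hcov : ∃ χ ∈ B, ∃ θ ∈ b, classInner (fun n : N => (χ : G → ℂ) n) (θ : N → ℂ) ≠ 0) :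
    blkR hM B * bl hM N b ≠ 0 := by
  obtain ⟨χ, hχ, θ, hθ, hcon⟩ := hcov
  intro h0
  have hbN := isBlk_bl hM N hb
  have h1 := mul_blkR_eq_of_constituent hM hN hB hb hχ hθ hcon (orb_inZ N (bl hM N b))
    (orb_suppOn N _) (orb_idem _) (orb_mul_self hbN)
  apply blkR_ne_zero hM hB
  rw [← h1, (orb_inZ N _).comm (blkR_inZ hM B)]
  exact mul_orb_eq_zero (blkR_inZ hM B).2 h0

include hM in
/-- **Knörr's theorem** -/
theorem knorr_blocks {N : Subgroup G} (hN : N.Normal) [Fintype N]
    {b : Set (IrrCharacter N)} (hb : IsPBlock M b) {Q : Subgroup G} (hQN : Q ≤ N)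
    (hQ : IsDefectGroup p M b (Q.subgroupOf N)) {B : Set (IrrCharacter G)} (hB : IsPBlock M B)
    (hcov : ∃ χ ∈ B, ∃ θ ∈ b, classInner (fun n : N => (χ : G → ℂ) n) (θ : N → ℂ) ≠ 0) :
    ∃ P : Subgroup G, IsDefectGroup p M B P ∧ P ⊓ N = Q := by
  have h1 := mul_ne_zero_of_covers hM hN hB hb hcov
  have h2 := (isDefectGroup_sub_iff hM N hb hQN).1 hQ
  obtain ⟨P, hP, hPQ⟩ := knorr (p := p) (isBlk_bl hM N hb) (isBlk_blkR hM hB) h2 h1
  exact ⟨P, (isDefectGroup_iff_isDef hM hB).2 hP, hPQ⟩

end Kn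

end Cfsg.Agent.Lib.Helper29
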