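import Mathlib
import Cfsg.Agent.Lib.Helper99.SP8.Defs
import Cfsg.Agent.Lib.Helper99.PGB.Defs
import Cfsg.Agent.Lib.Helper99.AltDerange
import Cfsg.Agent.Lib.Helper99.SPD.KP
import Cfsg.Agent.Lib.Helper66.PSAMIN

set_option autoImplicit false

universe u

namespace Cfsg.Agent.Lib.Helper29.PSA

open Module LinearMap QuadraticMap Cfsg.Agent.Lib.Helper48 Cfsg.Agent.Lib.Helper17
  Cfsg.Agent.Lib.Helper99.SP8 Cfsg.Agent.Lib.Helper99.PGB

/-- RK : rank of the fixed point free part of an element of prime order -/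
theorem eta_le_rank {F V : Type*} [Field F] [Fintype F] [AddCommGroup V] [Module F V]
    [FiniteDimensional F V] (B : LinearMap.BilinForm F V) (halt : ∀ v, B v v = 0)
    (hnd : ∀ x, (∀ y, B x y = 0) → x = 0) (g : End F V) (hg : IsoB B g) {r : ℕ} (hr : r.Prime)
    (hrq : ¬ r ∣ Fintype.card F) (hgr : g ^ r = 1) (hg1 : g ≠ 1) (k ηk : ℕ)
    (hk : ∀ j, r ∣ Fintype.card F ^ j - 1 ↔ k ∣ j)
    (hηk : (Odd k ∧ ηk = k) ∨ (Even k ∧ 2 * ηk = k)) : 2 * ηk ≤ finrank F (range (g - 1)) := by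
  have hrF : (r : F) ≠ 0 := by
    intro h0
    obtain ⟨p, hp⟩ := CharP.exists F
    have hpp : p.Prime := by
      rcases CharP.char_is_prime_or_zero F p with h | h
      · exact h
      · subst h
        have : CharZero F := CharP.charP_to_charZero F
        exact absurd (Nat.cast_eq_zero.mp h0) hr.ne_zero
    have h1 : p ∣ r := (CharP.cast_eq_zero_iff F p r).mp h0
    have h2 : p = r := (Nat.prime_dvd_prime_iff_eq hpp hr).mp h1
    have h3 : p ∣ Fintype.card F := (CharP.cast_eq_zero_iff F p _).mp (Nat.cast_card_eq_zero F)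
    exact hrq (h2 ▸ h3)
  have hK := Cfsg.Agent.Lib.Helper99.SPD.isCompl_ker_range g hrF hgr
  set R := range (g - 1) with hR
  have hperp : ∀ v ∈ R, ∀ x ∈ ker (g - 1), B v x = 0 := by
    rintro v ⟨w, rfl⟩ x hx
    rw [LinearMap.mem_ker, LinearMap.sub_apply, Module.End.one_apply, sub_eq_zero] at hx
    rw [LinearMap.sub_apply, Module.End.one_apply, map_sub, LinearMap.sub_apply]
    nth_rewrite 1 [← hx]
    rw [hg, sub_self]
  have hndR : Cfsg.Agent.Lib.Helper99.NondegOn B R := by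
    intro v hv hv0
    by_contra hcon
    push Not at hcon
    apply hv0
    apply hnd
    intro y
    have hy : y ∈ ker (g - 1) ⊔ R := by rw [hK.sup_eq_top]; exact Submodule.mem_top
    obtain ⟨a, ha, b, hb, rfl⟩ := Submodule.mem_sup.1 hy
    rw [map_add, hperp v hv a ha, hcon b hb, add_zero]
  obtain ⟨e, he⟩ := Cfsg.Agent.Lib.Helper99.even_finrank_of_nondegOn (B := B) halt hndR
  have hinv : ∀ x ∈ R, g x ∈ R := by
    rintro x ⟨w, rfl⟩
    refine ⟨g w, ?_⟩
    simp only [LinearMap.sub_apply, Module.End.one_apply, map_sub]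
  have hpow : (g.restrict hinv) ^ r = 1 := by
    rw [Module.End.pow_restrict]
    ext x
    simp [hgr]
  have hfix : ∀ v : R, (g.restrict hinv) v = v → v = 0 := by
    intro v hv
    have h1 : g (v : V) = v := congrArg Subtype.val hv
    have h2 : (v : V) ∈ ker (g - 1) ⊓ R := by
      refine Submodule.mem_inf.mpr ⟨?_, v.2⟩
      rw [LinearMap.mem_ker, LinearMap.sub_apply, Module.End.one_apply, h1, sub_self]
    rw [hK.inf_eq_bot, Submodule.mem_bot] at h2
    exact Subtype.ext h2
  have hdvd := Cfsg.Agent.Lib.Helper66.PSA.dvd_of_fpf (g.restrict hinv) hr hpow hfix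
  have hkd : k ∣ finrank F R := (hk _).mp hdvd
  have hpos : 0 < finrank F R := by
    rw [Module.finrank_pos_iff, Submodule.nontrivial_iff_ne_bot]
    intro h
    rw [hR, LinearMap.range_eq_bot, sub_eq_zero] at h
    exact hg1 h
  rcases hηk with ⟨hodd, rfl⟩ | ⟨_, h2⟩
  · have h1 : ηk ∣ e := by
      have h2 : ηk ∣ 2 * e := by rw [two_mul, ← he]; exact hkd
      exact (Nat.Coprime.dvd_of_dvd_mul_left (Nat.Coprime.symm (Nat.coprime_two_left.mpr hodd)) h2)
    have := Nat.le_of_dvd (by omega) h1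
    omega
  · rw [h2]
    exact Nat.le_of_dvd hpos hkd

end Cfsg.Agent.Lib.Helper29.PSA
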