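import Mathlib
import Cfsg.Agent.Lib.Helper29.RobTrace
import Cfsg.Agent.Lib.Helper71.Basic

set_option autoImplicit false
set_option linter.unusedSectionVars false

namespace Cfsg.Agent.Lib.Helper29

open scoped BigOperators

namespace Rob

section count
variable {G : Type*} [Group G] [Fintype G] (S : Subgroup G) [Fintype (G ⧸ S)]
  [DecidableEq (G ⧸ S)]

open Classical in
/-- the number of pairs `(y, z)` with `z y⁻¹ ∈ S` -/
noncomputable def omegaN (S : Subgroup G) (Pi Pj : G → Prop) : ℕ :=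
  ∑ y : G, ∑ z : G, if Pi y ∧ Pj z ∧ z * y⁻¹ ∈ S then 1 else 0

open Classical in
/-- `∑_{z ∈ K_j} fix(y z⁻¹)` -/
noncomputable def Fc (Pj : G → Prop) (y : G) : ℕ :=
  ∑ z : G, if Pj z then fixN (G ⧸ S) (y * z⁻¹) else 0

open Classical in
theorem sum_coset (Pi Pj : G → Prop) (hPi : ∀ t y, Pi (t * y * t⁻¹) ↔ Pi y)
    (hPj : ∀ t y, Pj (t * y * t⁻¹) ↔ Pj y) (c : G ⧸ S) :
    (∑ y : G, ∑ z : G, if Pi y ∧ Pj z ∧ (y * z⁻¹) • c = c then 1 else 0) = omegaN S Pi Pj := by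
  obtain ⟨g, rfl⟩ := QuotientGroup.mk_surjective c
  unfold omegaN
  refine Fintype.sum_equiv (MulAut.conj g⁻¹).toEquiv _ _ (fun y =>
    Fintype.sum_equiv (MulAut.conj g⁻¹).toEquiv _ _ (fun z => ?_))
  have e1 : ∀ w : G, (MulAut.conj g⁻¹).toEquiv w = g⁻¹ * w * g⁻¹⁻¹ := fun w => rfl
  rw [e1, e1]
  apply if_congr _ rfl rfl
  rw [hPi, hPj]
  have h1 : ((y * z⁻¹) • (g : G ⧸ S) = (g : G ⧸ S)) ↔
      g⁻¹ * z * g⁻¹⁻¹ * (g⁻¹ * y * g⁻¹⁻¹)⁻¹ ∈ S := by
    have h2 : (y * z⁻¹) • (g : G ⧸ S) = ((y * z⁻¹ * g : G) : G ⧸ S) := rfl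
    rw [h2, QuotientGroup.eq]
    have h3 : (y * z⁻¹ * g)⁻¹ * g = g⁻¹ * z * g⁻¹⁻¹ * (g⁻¹ * y * g⁻¹⁻¹)⁻¹ := by group
    rw [h3]
  rw [h1]

open Classical in
theorem Fc_conj (Pj : G → Prop) (hPj : ∀ t y, Pj (t * y * t⁻¹) ↔ Pj y) (t y : G) :
    Fc S Pj (t * y * t⁻¹) = Fc S Pj y := by
  unfold Fc
  symm
  refine Fintype.sum_equiv (MulAut.conj t).toEquiv _ _ (fun z => ?_)
  have e1 : (MulAut.conj t).toEquiv z = t * z * t⁻¹ := rfl
  rw [e1]
  have h1 : t * y * t⁻¹ * (t * z * t⁻¹)⁻¹ = t * (y * z⁻¹) * t⁻¹ := by group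
  rw [h1, fixN_conj]
  exact if_congr (hPj t z).symm rfl rfl

open Classical in
/-- the double counting identity -/
theorem card_mul_Fc (x : G) (Pj : G → Prop) (hPj : ∀ t y, Pj (t * y * t⁻¹) ↔ Pj y) :
    (Finset.univ.filter (fun y : G => ∃ t : G, y = t * x * t⁻¹)).card * Fc S Pj x =
      Fintype.card (G ⧸ S) * omegaN S (fun y => ∃ t : G, y = t * x * t⁻¹) Pj := by
  have hPi : ∀ s y, (∃ t : G, s * y * s⁻¹ = t * x * t⁻¹) ↔ ∃ t : G, y = t * x * t⁻¹ := by
    intro s y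
    constructor
    · rintro ⟨t, ht⟩
      refine ⟨s⁻¹ * t, ?_⟩
      have : y = s⁻¹ * (s * y * s⁻¹) * s := by group
      rw [this, ht]; group
    · rintro ⟨t, rfl⟩
      exact ⟨s * t, by group⟩
  have h1 : (∑ c : G ⧸ S, ∑ y : G, ∑ z : G,
      if (∃ t : G, y = t * x * t⁻¹) ∧ Pj z ∧ (y * z⁻¹) • c = c then 1 else 0) =
      Fintype.card (G ⧸ S) * omegaN S (fun y => ∃ t : G, y = t * x * t⁻¹) Pj := by
    have h0 : ∀ c : G ⧸ S, (∑ y : G, ∑ z : G,
        if (∃ t : G, y = t * x * t⁻¹) ∧ Pj z ∧ (y * z⁻¹) • c = c then 1 else 0) =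
        omegaN S (fun y => ∃ t : G, y = t * x * t⁻¹) Pj := by
      intro c
      convert sum_coset S (fun y => ∃ t : G, y = t * x * t⁻¹) Pj hPi hPj c
    rw [Finset.sum_congr rfl (fun c _ => h0 c), Finset.sum_const, Finset.card_univ, smul_eq_mul]
  rw [← h1, Finset.sum_comm]
  have h2 : ∀ y : G, (∑ c : G ⧸ S, ∑ z : G,
      if (∃ t : G, y = t * x * t⁻¹) ∧ Pj z ∧ (y * z⁻¹) • c = c then 1 else 0) =
      if (∃ t : G, y = t * x * t⁻¹) then Fc S Pj x else 0 := by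
    intro y
    rw [Finset.sum_comm]
    by_cases hy : ∃ t : G, y = t * x * t⁻¹
    · rw [if_pos hy]
      obtain ⟨t, rfl⟩ := hy
      rw [← Fc_conj S Pj hPj t x]
      unfold Fc
      refine Finset.sum_congr rfl (fun z _ => ?_)
      by_cases hz : Pj z
      · rw [if_pos hz]
        unfold fixN
        rw [Finset.card_filter]
        refine Finset.sum_congr rfl (fun c _ => ?_)
        apply if_congr _ rfl rfl
        constructor
        · intro h; exact h.2.2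
        · intro h; exact ⟨⟨t, rfl⟩, hz, h⟩
      · rw [if_neg hz]
        apply Finset.sum_eq_zero
        intro c _
        rw [if_neg]
        intro h; exact hz h.2.1
    · rw [if_neg hy]
      apply Finset.sum_eq_zero
      intro z _
      apply Finset.sum_eq_zero
      intro c _
      rw [if_neg]
      intro h; exact hy h.1
  rw [Finset.sum_congr rfl (fun y _ => h2 y), ← Finset.sum_filter, Finset.sum_const, smul_eq_mul]

end count

section arith

/-- arithmetic: from `n F = s ω`, `n = p^e m`, `p ∤ m s` we get `m F = s (ω / p^e)` -/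
theorem arith_div {p n F s w e m : ℕ} (hp : p.Prime) (h : n * F = s * w) (hn : n = p ^ e * m)
    (hs : ¬ p ∣ s) : m * F = s * (w / p ^ e) := by
  have hpe : 0 < p ^ e := pow_pos hp.pos e
  have h1 : p ^ e ∣ s * w := by
    rw [← h, hn, mul_assoc]; exact Dvd.intro _ rfl
  have hcop : Nat.Coprime (p ^ e) s := Nat.Coprime.pow_left e ((Nat.Prime.coprime_iff_not_dvd hp).2 hs)
  have h2 : p ^ e ∣ w := hcop.dvd_of_dvd_mul_left h1
  obtain ⟨v, rfl⟩ := h2
  rw [Nat.mul_div_cancel_left _ hpe]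
  apply Nat.eq_of_mul_eq_mul_left hpe
  calc p ^ e * (m * F) = p ^ e * m * F := by ring
    _ = s * (p ^ e * v) := by rw [← hn, h]
    _ = p ^ e * (s * v) := by ring

end arith

end Rob

end Cfsg.Agent.Lib.Helper29
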