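import Cfsg.Agent.Lib.Helper54.T16.Defs
import Cfsg.Agent.Lib.Helper28.BG12b
import Cfsg.Agent.Lib.Helper66.PiHall

set_option autoImplicit false
set_option linter.unusedVariables false
set_option linter.unusedSectionVars false

/-! Ladder T16, rung KEB (helper29): a maximal subgroup of Frobenius type has `K = 1`. -/

namespace Cfsg.Agent.Lib.Helper29.T16

open Cfsg Subgroup Cfsg.Agent.Lib.Helper54.BGT Cfsg.Agent.Lib.Helper54.T16

universe u

variable {G : Type u} [Group G] [Finite G]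

/-- RUNG KEB -/
theorem K_eq_bot_of_typeF (t55 : T1355 G) (t64 : T1364 G) (hG : IsMinSimpleOddOrder G)
    {M K U : Subgroup G} (hM : IsCoatom M) (hKU : IsSigmaDecomposition M K U)
    (h : IsOfTypeF ↥M) : K = ⊥ := by
  by_contra hK1
  obtain ⟨-, -, -, -, U', -, hc, -, U₀, hU₀, hexp, hfree⟩ := h
  have hcK : Nat.card K ≠ 1 := fun e => hK1 (Subgroup.card_eq_one.mp e)
  obtain ⟨r, hr, hrK⟩ := Nat.exists_prime_and_dvd hcK
  have : Fact r.Prime := ⟨hr⟩
  have hrκ : r ∈ kappa M := hKU.hall.2.1 r hr hrK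
  have hrσ : r ∉ sigma M := hrκ.2.2.1
  obtain ⟨-, hFσ, -, -, -⟩ := t55 hG M hM
  obtain ⟨-, hKs1, hKsF, -⟩ := t64 hG M hM K U hKU hK1
  have hrF : ¬ r ∣ Nat.card (fittingHall ↥M) := by
    intro hd
    apply hrσ
    apply (Cfsg.Agent.Lib.Helper28.BG12.sigmaCore_hall hG hM).2.1 r hr
    refine dvd_trans ?_ (Subgroup.card_dvd_of_le hFσ)
    have e : Nat.card (fittingHallOf M) = Nat.card (fittingHall ↥M) :=
      Subgroup.card_map_of_injective M.subtype_injective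
    rw [e]; exact hd
  have hrU' : r ∣ Nat.card U' := by
    have h1 : r ∣ Nat.card M := hrκ.2.1
    rw [← hc.card_mul_card] at h1
    exact (hr.dvd_mul.mp h1).resolve_left hrF
  obtain ⟨v, hv⟩ := exists_prime_orderOf_dvd_card' (G := U') r hrU'
  have hrexp : r ∣ Monoid.exponent U₀ := by
    rw [hexp, ← hv]; exact Monoid.order_dvd_exponent v
  have hrU₀ : r ∣ Nat.card U₀ := hrexp.trans Group.exponent_dvd_nat_card
  obtain ⟨u, hu⟩ := exists_prime_orderOf_dvd_card' (G := U₀) r hrU₀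
  have huo : orderOf (((u : ↥M)) : G) = r := by
    rw [Subgroup.orderOf_coe, Subgroup.orderOf_coe, hu]
  have hu1 : (u : ↥M) ≠ 1 := by
    intro e
    rw [e] at huo
    simp at huo
    exact hr.one_lt.ne huo
  obtain ⟨Y, hY, -, huY⟩ := Cfsg.Agent.Lib.Helper66.exists_invariant_isPiHallOf_ge
    (π := kappa M) (A := (⊥ : Subgroup G)) (G := M) (U := zpowers (((u : ↥M)) : G)) bot_le
    (by rw [Subgroup.card_bot]; exact Nat.coprime_one_left _)
    (Cfsg.Agent.Lib.Helper30.solvable_of_ne_top hG hM.1) (zpowers_le.2 (u : ↥M).2) bot_le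
    (fun q hq hqd => by
      rw [Nat.card_zpowers, huo] at hqd
      rw [(Nat.prime_dvd_prime_iff_eq hq hr).mp hqd]; exact hrκ)
  obtain ⟨m, hm, e⟩ := Cfsg.Agent.Lib.Helper66.isPiHallOf_exists_conj
    (Cfsg.Agent.Lib.Helper30.solvable_of_ne_top hG hM.1) hY hKU.hall
  have hmu : m * (((u : ↥M)) : G) * m⁻¹ ∈ K := by
    rw [e]
    exact Cfsg.Agent.Lib.Helper30.conj_mem_cj (huY (mem_zpowers _))
  obtain ⟨⟨y, hy⟩, hy1'⟩ := Subgroup.ne_bot_iff_exists_ne_one.mp hKs1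
  have hy1 : y ≠ 1 := fun e => hy1' (Subtype.ext e)
  obtain ⟨y', hy'F, hy'⟩ := Subgroup.mem_map.mp (hKsF hy)
  have hy'e : (y' : G) = y := hy'
  have hcomm : m * (((u : ↥M)) : G) * m⁻¹ * y = y * (m * (((u : ↥M)) : G) * m⁻¹) :=
    (mem_centralizer_iff.mp hy.2) _ hmu
  set m' : ↥M := ⟨m, hm⟩ with hm'
  have hxF : m'⁻¹ * y' * m' ∈ fittingHall ↥M := by
    have := (fittingHall_normal ↥M).conj_mem y' hy'F m'⁻¹
    rwa [inv_inv] at this
  have hx := hfree (u : ↥M) u.2 hu1 (m'⁻¹ * y' * m') hxF (by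
    apply Subtype.ext
    show (((u : ↥M)) : G) * (m⁻¹ * (y' : G) * m) = (m⁻¹ * (y' : G) * m) * (((u : ↥M)) : G)
    rw [hy'e]
    have e1 : (((u : ↥M)) : G) * (m⁻¹ * y * m) =
        m⁻¹ * (m * (((u : ↥M)) : G) * m⁻¹ * y) * m := by group
    rw [e1, hcomm]; group)
  apply hy1
  have h2 : y' = 1 := by
    have : y' = m' * (m'⁻¹ * y' * m') * m'⁻¹ := by group
    rw [this, hx]; group
  rw [← hy'e, h2]; rfl

end Cfsg.Agent.Lib.Helper29.T16
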